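import Cfsg.Agent.Lib.Suzuki.Group
import Mathlib.LinearAlgebra.Dual.Lemmas
import Mathlib.GroupTheory.PGroup

/-!
# Modules of the Suzuki groups over the field of definition

A module satisfies `Rel5` if the element `y = T(0,1) W` of order five fixes no non-zero vector. For
such a module an irreducible one is a Galois twist of the natural module.
-/

set_option autoImplicit false
set_option linter.unusedSectionVars false
set_option linter.style.haveILetI false

namespace Cfsg.Agent.SzFpf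

open Cfsg.Agent.Suzuki

universe u v w

variable {F : Type u} [Field F] [Fintype F] {m : ℕ} (h : SzField F m)

local notation "Sz" => Cfsg.Sz F m

/-- The weight of the top vector of the natural module. -/
def lam (m : ℕ) : Fˣ →* Fˣ where
  toFun k := Units.mk0 (hθ m (k : F) * (k : F)) (mul_ne_zero (hθ_ne_zero m k.ne_zero) k.ne_zero)
  map_one' := Units.ext (by simp [hθ])
  map_mul' k l := Units.ext (by simp [hθ_mul]; ring)

theorem lam_coe (k : Fˣ) : (lam m k : F) = hθ m (k : F) * (k : F) := rfl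

/-- The endomorphism `θ` as a ring homomorphism. -/
def thetaHom : F →+* F where
  toFun := θ m
  map_one' := θ_one m
  map_mul' := θ_mul m
  map_zero' := θ_zero m
  map_add' := h.θ_add

theorem thetaHom_apply (x : F) : thetaHom h x = θ m x := rfl

include h

theorem lam_injective : Function.Injective (lam (F := F) m) := by
  rw [injective_iff_map_eq_one]
  intro k hk
  have e : hθ m (k : F) * k = 1 := congrArg Units.val hk
  have e1 : (k : F) * θ m (k : F) = 1 := by
    have := congrArg (θ m) e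
    rwa [θ_mul, h.θ_hθ, θ_one] at this
  have e2 : θ m (k : F) * (k : F) ^ 2 = 1 := by
    have := congrArg (θ m) e1
    rwa [θ_mul, h.θ_θ, θ_one] at this
  have hk1 : (k : F) = 1 := by
    linear_combination e2 - (k : F) * e1
  exact Units.ext hk1

theorem lam_bijective : Function.Bijective (lam (F := F) m) :=
  Finite.injective_iff_bijective.1 (lam_injective h)

theorem exists_ne : ∃ x : F, x ≠ 0 ∧ x ≠ 1 ∧ x ^ 2 + x + 1 ≠ 0 := by
  classical
  by_contra hcon
  push Not at hcon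
  have h8 := h.eight_le_card
  obtain ⟨a, ha⟩ : ∃ a : F, a ∉ ({0, 1} : Finset F) := by
    by_contra hall
    push Not at hall
    have := (Finset.card_le_card (fun a _ => hall a : (Finset.univ : Finset F) ⊆ {0, 1})).trans
      Finset.card_le_two
    rw [Finset.card_univ] at this
    omega
  simp only [Finset.mem_insert, Finset.mem_singleton, not_or] at ha
  have hroot := hcon a ha.1 ha.2
  have hsub : (Finset.univ : Finset F) ⊆ {0, 1, a, a + 1} := fun x _ => by
    simp only [Finset.mem_insert, Finset.mem_singleton]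
    by_cases hx0 : x = 0
    · exact Or.inl hx0
    by_cases hx1 : x = 1
    · exact Or.inr (Or.inl hx1)
    have hx := hcon x hx0 hx1
    have : (x - a) * (x + a + 1) = 0 := by linear_combination hx - hroot
    rcases mul_eq_zero.1 this with e | e
    · exact Or.inr (Or.inr (Or.inl (sub_eq_zero.1 e)))
    · exact Or.inr (Or.inr (Or.inr (by linear_combination e - (a + 1) * h.two_eq_zero)))
  have := (Finset.card_le_card hsub).trans (Finset.card_le_four)
  rw [Finset.card_univ] at this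
  omega

/-! ### Relations -/

/-- The element of order five. -/
def y : Sz := T h 0 1 * W h

theorem tEl_inj_row {a b : F} (g : Sz) : ((T h a b * g : Sz) : Matrix.SpecialLinearGroup (Fin 4) F).1 3 =
    (g : Matrix.SpecialLinearGroup (Fin 4) F).1 3 := by
  funext j
  show ((tEl m a b).1 * (g : Matrix.SpecialLinearGroup (Fin 4) F).1) 3 j = _
  simp [Matrix.mul_apply, tEl_coe, Fin.sum_univ_succ]

theorem sts : W h * T h 0 1 * W h = T h 1 0 * W h * T h 1 1 := by
  refine Subtype.ext (Subtype.ext ?_)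
  show wEl.1 * (tEl m (0 : F) 1).1 * wEl.1 = (tEl m (1 : F) 0).1 * wEl.1 * (tEl m (1 : F) 1).1
  simp only [tEl_coe, wEl_coe]
  ext i j
  fin_cases i <;> fin_cases j <;>
    simp [Matrix.mul_apply, Fin.sum_univ_succ, fz_eq, add_assoc, h.add_self]

theorem y_inv : (y h)⁻¹ = W h * T h 0 1 := by
  rw [y, mul_inv_rev, W_inv, T_inv]
  simp

theorem y_sq : y h * y h = T h 1 0 * y h * (T h 1 0)⁻¹ := by
  rw [y, T_inv]
  have e : T h (0 : F) 1 * W h * (T h 0 1 * W h) = T h 0 1 * (W h * T h 0 1 * W h) := by group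
  rw [e, sts, show (0 : F) + θ m 1 * 1 = 1 by simp, ← mul_assoc, ← mul_assoc, ← mul_assoc, T_mul, T_mul]
  simp [add_comm]

theorem y_four : y h ^ 4 = (y h)⁻¹ := by
  have ef : T h (1 : F) 0 * T h 1 0 = T h 0 1 := by rw [T_mul]; simp [h.add_self]
  have e : y h ^ 4 = T h 0 1 * y h * (T h 0 1)⁻¹ := by
    rw [show y h ^ 4 = (y h * y h) * (y h * y h) by simp [pow_succ, mul_assoc], y_sq,
      show T h 1 0 * y h * (T h 1 0)⁻¹ * (T h 1 0 * y h * (T h 1 0)⁻¹) =
        T h 1 0 * (y h * y h) * (T h 1 0)⁻¹ by group, y_sq, ← ef]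
    group
  rw [e, y_inv, y, ← mul_assoc (T h 0 1), T_mul, T_inv]
  simp [h.add_self, T_zero]

theorem y_pow_five : y h ^ 5 = 1 := by rw [pow_succ, y_four, inv_mul_cancel]

theorem exists_bruhat {u : F × F} (hu : u ≠ 0) :
    ∃ (k : Fˣ) (g : F × F), (lam m k⁻¹ : F) = fz m u.1 u.2 ∧
      W h * T h u.1 u.2 * W h =
        T h (u.2 / fz m u.1 u.2) (u.1 / fz m u.1 u.2) * H h k * W h * T h g.1 g.2 := by
  obtain ⟨f, hf, hr⟩ : ∃ f : F × F, (f = (u.2 / fz m u.1 u.2, u.1 / fz m u.1 u.2)) ∧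
      W h • T h u.1 u.2 • pt m (0 : F) 0 = T h f.1 f.2 • pt m (0 : F) 0 := by
    refine ⟨_, rfl, ?_⟩
    rw [T_smul_pt_zero, T_smul_pt_zero]
    exact wEl_smul_pt h fun e => hu (Prod.ext (h.fz_eq_zero e).1 (h.fz_eq_zero e).2)
  subst hf
  set f1 := u.2 / fz m u.1 u.2
  set f2 := u.1 / fz m u.1 u.2
  have hb : W h * (T h f1 f2)⁻¹ * (W h * T h u.1 u.2 * W h) ∈ borel F m := by
    show (W h * (T h f1 f2)⁻¹ * (W h * T h u.1 u.2 * W h)) • Cfsg.suzukiPointInfinity F = _
    rw [mul_smul, mul_smul, mul_smul, mul_smul, W_smul_pinf, hr, inv_smul_smul, W_smul_pt_zero]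
  obtain ⟨a, b, k, hk⟩ := borel_form h hb
  have e : W h * T h u.1 u.2 * W h = T h f1 f2 * W h * (T h a b * H h k) := by
    rw [← hk]
    calc W h * T h u.1 u.2 * W h = T h f1 f2 * (W h * W h) * (T h f1 f2)⁻¹ * (W h * T h u.1 u.2 * W h) := by
          rw [W_mul_self]; group
      _ = _ := by group
  have e' : T h a b * H h k = H h k * T h ((k⁻¹ : Fˣ) * a) (θ m ((k⁻¹ : Fˣ) : F) * (k⁻¹ : Fˣ) * b) := by
    rw [← H_conj_T h k⁻¹ a b, ← H_inv, inv_inv]; group
  have eW : W h * H h k = H h k⁻¹ * W h := by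
    rw [← W_conj_H h k, mul_assoc _ (W h), W_mul_self, mul_one]
  refine ⟨k⁻¹, ((k⁻¹ : Fˣ) * a, θ m ((k⁻¹ : Fˣ) : F) * (k⁻¹ : Fˣ) * b), ?_, ?_⟩
  swap
  · rw [e, e', ← mul_assoc, mul_assoc (T h f1 f2), eW, ← mul_assoc]
  rw [inv_inv]
  -- compare the bottom left entries
  have hm : W h * T h u.1 u.2 * W h =
      T h f1 f2 * (H h k⁻¹ * W h * T h ((k⁻¹ : Fˣ) * a) (θ m ((k⁻¹ : Fˣ) : F) * (k⁻¹ : Fˣ) * b)) := by
    rw [e, e', ← mul_assoc, mul_assoc (T h f1 f2), eW]; group
  have h30 := congrFun (congrArg (fun g : Sz => (g : Matrix.SpecialLinearGroup (Fin 4) F).1 3) hm) 0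
  rw [tEl_inj_row] at h30
  have l : ((W h * T h u.1 u.2 * W h : Sz) : Matrix.SpecialLinearGroup (Fin 4) F).1 3 0 =
      fz m u.1 u.2 := by
    show ((wEl : Matrix.SpecialLinearGroup (Fin 4) F).1 * (tEl m u.1 u.2).1 *
      (wEl : Matrix.SpecialLinearGroup (Fin 4) F).1) 3 0 = _
    simp [tEl_coe, wEl_coe, Matrix.mul_apply, Fin.sum_univ_succ]
  have r : ∀ (l : Fˣ) (c d : F), ((H h l * W h * T h c d : Sz) : Matrix.SpecialLinearGroup (Fin 4) F).1 3 0 =
      (hθ m (l : F) * l)⁻¹ := fun l c d => by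
    show ((hEl m l).1 * (wEl : Matrix.SpecialLinearGroup (Fin 4) F).1 * (tEl m c d).1) 3 0 = _
    simp [hEl_coe, tEl_coe, wEl_coe, Matrix.mul_apply, Fin.sum_univ_succ]
  rw [l, r] at h30
  rw [h30, ← lam_coe, map_inv, Units.val_inv_eq_inv_val, inv_inv]

theorem gen_induction {p : Sz → Prop} (hT : ∀ a b, p (T h a b)) (hH : ∀ k, p (H h k)) (hW : p (W h))
    (hmul : ∀ x z, p x → p z → p (x * z)) (g : Sz) : p g := by
  by_cases hg : g ∈ borel F m
  · obtain ⟨a, b, k, rfl⟩ := borel_form h hg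
    exact hmul _ _ (hT _ _) (hH _)
  · obtain ⟨x, z, a, b, k, rfl⟩ := bruhat h hg
    exact hmul _ _ (hmul _ _ (hT _ _) hW) (hmul _ _ (hT _ _) (hH _))

omit h

/-! ### The natural module -/

/-- The natural module twisted by `σ`. -/
def nat (σ : F →+* F) : Sz →* Module.End F (Fin 4 → F) where
  toFun g := Matrix.toLin' (σ.mapMatrix (g : Matrix.SpecialLinearGroup (Fin 4) F).1)
  map_one' := by simp [Module.End.one_eq_id]
  map_mul' g k := by
    simp only [Subgroup.coe_mul, Matrix.SpecialLinearGroup.coe_mul, map_mul, Matrix.toLin'_mul]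
    rfl

include h

theorem nat_T (σ : F →+* F) (a b : F) (x : Fin 4 → F) :
    nat σ (T h a b) x = ![x 0 + σ a * x 1 + σ (b + θ m a * a) * x 2 + σ (fz m a b) * x 3,
      x 1 + σ (θ m a) * x 2 + σ b * x 3, x 2 + σ a * x 3, x 3] := by
  show Matrix.toLin' (σ.mapMatrix (tEl m a b).1) x = _
  funext i
  fin_cases i <;> simp [tEl_coe, Matrix.mulVec, dotProduct, Fin.sum_univ_succ] <;> ring

theorem nat_H (σ : F →+* F) (k : Fˣ) (x : Fin 4 → F) :
    nat σ (H h k) x = ![σ (lam m k) * x 0, σ (hθ m (k : F)) * x 1, (σ (hθ m (k : F)))⁻¹ * x 2,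
      (σ (lam m k))⁻¹ * x 3] := by
  show Matrix.toLin' (σ.mapMatrix (hEl m k).1) x = _
  funext i
  fin_cases i <;> simp [hEl_coe, lam_coe, Matrix.mulVec, dotProduct, Fin.sum_univ_succ, map_inv₀]

theorem nat_W (σ : F →+* F) (x : Fin 4 → F) : nat σ (W h) x = ![x 3, x 2, x 1, x 0] := by
  show Matrix.toLin' (σ.mapMatrix (wEl : Matrix.SpecialLinearGroup (Fin 4) F).1) x = _
  funext i
  fin_cases i <;> simp [wEl_coe, Matrix.mulVec, dotProduct, Fin.sum_univ_succ]

/-! ### Modules -/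

variable {V : Type v} [AddCommGroup V] [Module F V]

theorem add_self_vec (x : V) : x + x = 0 := by
  rw [← two_smul F, h.two_eq_zero, zero_smul]

/-- The element of order five fixes only zero. -/
def Rel5 (ρ : Sz →* Module.End F V) : Prop :=
  ∀ v : V, ρ (y h) v = v → v = 0

theorem Rel5.sum {ρ : Sz →* Module.End F V} (hρ : Rel5 h ρ) (v : V) :
    v + ρ (y h) v + ρ (y h ^ 2) v + ρ (y h ^ 3) v + ρ (y h ^ 4) v = 0 := by
  have hc : ∀ i, ρ (y h) (ρ (y h ^ i) v) = ρ (y h ^ (i + 1)) v := fun i => by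
    rw [pow_succ', map_mul]; rfl
  refine hρ _ ?_
  have h2 : ρ (y h) (ρ (y h) v) = ρ (y h ^ 2) v := by rw [pow_two, map_mul]; rfl
  rw [map_add, map_add, map_add, map_add, hc, hc, hc, h2]
  rw [show (ρ (y h ^ (4 + 1))) v = v by rw [y_pow_five, map_one]; rfl]
  simp only [LinearMap.comp_apply, zero_add, pow_one, pow_succ']
  abel

omit h

variable {V' : Type w} [AddCommGroup V'] [Module F V']

/-- An intertwining map. -/
def IsHom (ρ : Sz →* Module.End F V) (ρ' : Sz →* Module.End F V') (f : V →ₗ[F] V') : Prop :=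
  ∀ g x, f (ρ g x) = ρ' g (f x)

/-- The contragredient module. -/
def dual (ρ : Sz →* Module.End F V) : Sz →* Module.End F (Module.Dual F V) where
  toFun g := (ρ g⁻¹).dualMap
  map_one' := by
    refine LinearMap.ext fun φ => LinearMap.ext fun x => ?_
    simp
  map_mul' g k := by
    refine LinearMap.ext fun φ => LinearMap.ext fun x => ?_
    simp [mul_inv_rev]

theorem dual_apply (ρ : Sz →* Module.End F V) (g : Sz) (φ : Module.Dual F V) (x : V) :
    dual ρ g φ x = φ (ρ g⁻¹ x) := rfl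

theorem rho_mul (ρ : Sz →* Module.End F V) (g k : Sz) (x : V) : ρ (g * k) x = ρ g (ρ k x) := by
  rw [map_mul]; rfl

theorem rho_inv_apply (ρ : Sz →* Module.End F V) (g : Sz) (x : V) : ρ g⁻¹ (ρ g x) = x := by
  rw [← rho_mul, inv_mul_cancel, map_one]; rfl

theorem rho_apply_inv (ρ : Sz →* Module.End F V) (g : Sz) (x : V) : ρ g (ρ g⁻¹ x) = x := by
  rw [← rho_mul, mul_inv_cancel, map_one]; rfl

include h

theorem isHom_of_gen {ρ : Sz →* Module.End F V} {ρ' : Sz →* Module.End F V'} {f : V →ₗ[F] V'}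
    (hT : ∀ a b x, f (ρ (T h a b) x) = ρ' (T h a b) (f x))
    (hH : ∀ k x, f (ρ (H h k) x) = ρ' (H h k) (f x))
    (hW : ∀ x, f (ρ (W h) x) = ρ' (W h) (f x)) : IsHom ρ ρ' f := fun g => by
  refine gen_induction h (p := fun g => ∀ x, f (ρ g x) = ρ' g (f x)) hT hH hW (fun g k hg hk x => ?_) g
  rw [rho_mul, hg, hk, ← rho_mul]

theorem Rel5.dual {ρ : Sz →* Module.End F V} (hρ : Rel5 h ρ) : Rel5 h (dual ρ) := by
  intro φ hφ
  refine LinearMap.ext fun x => ?_
  have hi : ∀ i, φ (ρ (y h ^ i) x) = φ x := fun i => by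
    induction i with
    | zero => rw [pow_zero, map_one]; rfl
    | succ i ih =>
      have e := congrArg (fun ψ : Module.Dual F V => ψ (ρ (y h ^ (i + 1)) x)) hφ
      rw [pow_succ', rho_mul] at e ⊢
      simp only [dual_apply, rho_inv_apply] at e
      rw [← e, ih]
  have e := congrArg φ (hρ.sum h x)
  rw [map_add, map_add, map_add, map_add, map_zero, hi, hi, hi] at e
  rw [show (φ (ρ (y h) x)) = φ x by simpa using hi 1] at e
  rw [LinearMap.zero_apply]
  linear_combination e - 2 * φ x * h.two_eq_zero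

theorem Rel5.of_injective {ρ : Sz →* Module.End F V} {ρ' : Sz →* Module.End F V'} (hρ : Rel5 h ρ')
    {f : V →ₗ[F] V'} (hf : IsHom ρ ρ' f) (hi : Function.Injective f) : Rel5 h ρ := fun v hv =>
  hi (by rw [map_zero]; exact hρ _ (by rw [← hf, hv]))

theorem Rel5.of_surjective {ρ : Sz →* Module.End F V} {ρ' : Sz →* Module.End F V'} (hρ : Rel5 h ρ)
    {f : V →ₗ[F] V'} (hf : IsHom ρ ρ' f) (hs : Function.Surjective f) : Rel5 h ρ' := by
  intro v hv
  obtain ⟨x, rfl⟩ := hs v
  have hi : ∀ i, f (ρ (y h ^ i) x) = f x := fun i => by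
    induction i with
    | zero => rw [pow_zero, map_one]; rfl
    | succ i ih => rw [pow_succ', rho_mul, hf, ih, hv]
  have e := congrArg f (hρ.sum h x)
  rw [map_add, map_add, map_add, map_add, map_zero, hi, hi, hi,
    show f (ρ (y h) x) = f x by simpa using hi 1] at e
  rw [add_self_vec h, zero_add, add_self_vec h, zero_add] at e
  exact e

/-! ### Fixed vectors -/

/-- Fixed by the root group. -/
def Fixed (ρ : Sz →* Module.End F V) (v : V) : Prop := ∀ a b, ρ (T h a b) v = v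

theorem exists_fixed [FiniteDimensional F V] (ρ : Sz →* Module.End F V) {N : Submodule F V} (hN : N ≠ ⊥)
    (hinv : ∀ g, ∀ x ∈ N, ρ g x ∈ N) : ∃ v ∈ N, v ≠ 0 ∧ Fixed h ρ v := by
  haveI : Fact (Nat.Prime 2) := ⟨Nat.prime_two⟩
  haveI : Finite V := Module.finite_of_finite F
  let act : MulAction (rootGroup h) N :=
    { smul := fun g x => ⟨ρ (g : Sz) x, hinv _ _ x.2⟩
      one_smul := fun x => Subtype.ext (by show ρ ((1 : rootGroup h) : Sz) x = x; simp)
      mul_smul := fun g k x => Subtype.ext (by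
        show ρ ((g * k : rootGroup h) : Sz) x = _
        rw [Subgroup.coe_mul, rho_mul]; rfl) }
  letI := act
  have hp : IsPGroup 2 (rootGroup h) :=
    IsPGroup.of_card (n := (2 * m + 1) * 2) (by rw [card_rootGroup, pow_mul])
  have hev : 2 ∣ Nat.card N := by
    haveI : Nontrivial N := (Submodule.nontrivial_iff_ne_bot).2 hN
    rw [Module.natCard_eq_pow_finrank (K := F) (V := N), Nat.card_eq_fintype_card (α := F), h.card]
    exact (dvd_pow_self 2 (by omega)).trans (dvd_pow_self _ (Module.finrank_pos).ne')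
  have h0 : (0 : N) ∈ MulAction.fixedPoints (rootGroup h) N := fun g => Subtype.ext (map_zero _)
  obtain ⟨v, hv, hv0⟩ := hp.exists_fixed_point_of_prime_dvd_card_of_fixed_point _ hev h0
  exact ⟨v, v.2, fun e => hv0 (Subtype.ext e.symm), fun a b =>
    congrArg Subtype.val (hv ⟨T h a b, a, b, rfl⟩)⟩

theorem Fixed.torus {ρ : Sz →* Module.End F V} {v : V} (hv : Fixed h ρ v) (k : Fˣ) :
    Fixed h ρ (ρ (H h k) v) := fun a b => by
  have e : T h a b * H h k = H h k * T h ((k⁻¹ : Fˣ) * a) (θ m ((k⁻¹ : Fˣ) : F) * (k⁻¹ : Fˣ) * b) := by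
    rw [← H_conj_T h k⁻¹ a b, ← H_inv, inv_inv]; group
  rw [← rho_mul, e, rho_mul, hv]

/-- A weight vector of the torus. -/
def Eigen (ρ : Sz →* Module.End F V) (χ : Fˣ → F) (v : V) : Prop := ∀ k, ρ (H h k) v = χ k • v

open scoped Classical

theorem card_sub_one_eq_one : ((Fintype.card F - 1 : ℕ) : F) = 1 := by
  haveI := h.charP
  rw [Nat.cast_sub Fintype.card_pos, FiniteField.cast_card_eq_zero, Nat.cast_one, zero_sub, h.neg_eq]

/-- Averaging over the torus. -/
noncomputable def avg (ρ : Sz →* Module.End F V) (χ : Fˣ →* F) (v : V) : V :=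
  ∑ k : Fˣ, χ k⁻¹ • ρ (Suzuki.H h k) v

theorem eigen_avg (ρ : Sz →* Module.End F V) (χ : Fˣ →* F) (v : V) :
    Eigen h ρ (fun k => χ k) (avg h ρ χ v) := fun l => by
  classical
  simp only [avg, map_sum, map_smul, Finset.smul_sum, smul_smul, ← rho_mul, ← H_mul]
  refine Fintype.sum_equiv (Equiv.mulLeft l) _ _ fun k => ?_
  show _ = (χ l * χ (l * k)⁻¹) • ρ (Suzuki.H h (l * k)) v
  rw [← map_mul, mul_inv_rev, mul_comm k⁻¹, mul_inv_cancel_left]

theorem exists_eigen_fixed [FiniteDimensional F V] (ρ : Sz →* Module.End F V) {N : Submodule F V}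
    (hN : N ≠ ⊥) (hinv : ∀ g, ∀ x ∈ N, ρ g x ∈ N) :
    ∃ (v : V) (χ : Fˣ →* F), v ∈ N ∧ v ≠ 0 ∧ Fixed h ρ v ∧ Eigen h ρ (fun k => χ k) v := by
  classical
  obtain ⟨v, hvN, hv0, hv⟩ := exists_fixed h ρ hN hinv
  let χ : ℕ → (Fˣ →* F) := fun j => (Units.coeHom F).comp (powMonoidHom j)
  have hsum : (∑ j ∈ Finset.range (Fintype.card F - 1), avg h ρ (χ j) v) = v := by
    simp only [avg]
    rw [Finset.sum_comm, Finset.sum_eq_single (1 : Fˣ)]
    · simp only [inv_one, map_one, one_smul, Finset.sum_const, Finset.card_range]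
      rw [show Suzuki.H h (1 : Fˣ) = 1 from H_one h, map_one, ← Nat.cast_smul_eq_nsmul F, card_sub_one_eq_one h,
        one_smul]
      rfl
    · intro k _ hk
      rw [← Finset.sum_smul]
      have : ∑ j ∈ Finset.range (Fintype.card F - 1), χ j k⁻¹ = 0 := by
        have hne : ((k⁻¹ : Fˣ) : F) - 1 ≠ 0 := fun e =>
          hk (inv_eq_one.1 (Units.ext (sub_eq_zero.1 e)))
        refine (mul_eq_zero.1 ?_).resolve_right hne
        show (∑ j ∈ Finset.range (Fintype.card F - 1), (((k⁻¹) ^ j : Fˣ) : F)) * _ = 0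
        simp only [Units.val_pow_eq_pow_val]
        rw [geom_sum_mul, FiniteField.pow_card_sub_one_eq_one _ (Units.ne_zero _), sub_self]
      rw [this, zero_smul]
    · intro hh; exact absurd (Finset.mem_univ _) hh
  obtain ⟨j, -, hj⟩ : ∃ j ∈ Finset.range (Fintype.card F - 1), avg h ρ (χ j) v ≠ 0 :=
    Finset.exists_ne_zero_of_sum_ne_zero (hsum.symm ▸ hv0)
  refine ⟨_, χ j, Submodule.sum_mem _ fun k _ => N.smul_mem _ (hinv _ _ hvN), hj, fun a b => ?_,
    eigen_avg h ρ _ v⟩
  simp only [avg, map_sum, map_smul]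
  exact Finset.sum_congr rfl fun k _ => by rw [hv.torus h k a b]

/-- The orbit of a fixed vector under the element of order five. -/
theorem fixed_eq {ρ : Sz →* Module.End F V} (hρ : Rel5 h ρ) {v : V} (hv : Fixed h ρ v) :
    v = ρ (W h) v + ρ (T h 0 1) (ρ (W h) v) + ρ (T h 1 0) (ρ (W h) v) + ρ (T h 1 1) (ρ (W h) v) := by
  have e1 : ρ (y h) v = ρ (T h 0 1) (ρ (W h) v) := rho_mul _ _ _ _
  have e4 : ρ (y h ^ 4) v = ρ (W h) v := by rw [y_four, y_inv, rho_mul, hv]
  have einv : (T h (1 : F) 0)⁻¹ = T h 1 1 := by rw [T_inv]; simp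
  have e2 : ρ (y h ^ 2) v = ρ (T h 1 1) (ρ (W h) v) := by
    rw [pow_two, y_sq, einv, rho_mul, rho_mul, hv, e1, ← rho_mul, T_mul]
    simp [add_comm]
  have e3 : ρ (y h ^ 3) v = ρ (T h 1 0) (ρ (W h) v) := by
    have e : y h ^ 3 = T h 1 0 * y h ^ 4 * (T h 1 0)⁻¹ := by
      rw [show T h 1 0 * y h ^ 4 * (T h 1 0)⁻¹ = (T h 1 0 * y h * (T h 1 0)⁻¹) ^ 4 from conj_pow.symm,
        ← y_sq, ← pow_two, ← pow_mul, show 2 * 4 = 5 + 3 from rfl, pow_add, y_pow_five, one_mul]
    rw [e, einv, rho_mul, rho_mul, hv, e4]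
  have e := hρ.sum h v
  rw [e1, e2, e3, e4] at e
  calc v = v + (v + ρ (T h 0 1) (ρ (W h) v) + ρ (T h 1 1) (ρ (W h) v) + ρ (T h 1 0) (ρ (W h) v) +
      ρ (W h) v) := by rw [e, add_zero]
    _ = (v + v) + (ρ (W h) v + ρ (T h 0 1) (ρ (W h) v) + ρ (T h 1 0) (ρ (W h) v) +
      ρ (T h 1 1) (ρ (W h) v)) := by abel
    _ = _ := by rw [add_self_vec h, zero_add]

theorem fixed_kill {ρ : Sz →* Module.End F V} (hρ : Rel5 h ρ) {v : V} (hv : Fixed h ρ v)
    {ψ : Module.Dual F V} (hψ : Fixed h (dual ρ) ψ) : ψ v = 0 := by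
  have hψ' : ∀ a b x, ψ (ρ (T h a b) x) = ψ x := fun a b x => by
    have e := congrArg (fun φ : Module.Dual F V => φ (ρ (T h a b) x)) (hψ a b)
    simp only [dual_apply, rho_inv_apply] at e
    exact e.symm
  rw [fixed_eq h hρ hv, map_add, map_add, map_add, hψ', hψ', hψ', h.add_self, zero_add, h.add_self]

theorem fz_succ (x z : F) : fz m x (z + 1) = fz m x z + x + 1 := by
  rw [fz_eq, fz_eq, h.θ_add, θ_one]; ring

/-- The third coordinate of a translate of a vector in the natural module determines it. -/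
theorem nat_coord_injective (σ : F →+* F) {x : Fin 4 → F} (hx : ∀ g : Sz, nat σ g x 3 = 0) : x = 0 := by
  have h3 : x 3 = 0 := by simpa using hx 1
  have hW : ∀ a b, (nat σ (T h a b) x) 0 = 0 := fun a b => by
    have := hx (W h * T h a b)
    rw [rho_mul, nat_W] at this
    simpa using this
  have h0 : x 0 = 0 := by simpa [nat_T h, fz_eq] using hW 0 0
  have h2 : x 2 = 0 := by
    have := hW 0 1
    simpa [nat_T h, fz_eq, h0, h3] using this
  have h1 : x 1 = 0 := by
    have := hW 1 0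
    simpa [nat_T h, fz_eq, h0, h2, h3] using this
  funext i
  fin_cases i <;> simp_all

/-- An invariant non-zero subspace of the natural module is everything. -/
theorem nat_irreducible (σ : F →+* F) {N : Submodule F (Fin 4 → F)}
    (hinv : ∀ g : Sz, ∀ x ∈ N, nat σ g x ∈ N) (hN : N ≠ ⊥) : N = ⊤ := by
  obtain ⟨v, hvN, hv0, hv⟩ := exists_fixed h (nat σ) hN hinv
  have e10 := hv 1 0
  rw [nat_T h] at e10
  have e01 := hv 0 1
  rw [nat_T h] at e01
  have h3 : v 3 = 0 := by simpa using congrFun e10 2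
  have h2 : v 2 = 0 := by simpa [h3] using congrFun e10 1
  have h1 : v 1 = 0 := by simpa [h2, h3] using congrFun e10 0
  have h0 : v 0 ≠ 0 := fun h0 => hv0 (funext fun i => by fin_cases i <;> simp_all)
  have m0 : (![1, 0, 0, 0] : Fin 4 → F) ∈ N := by
    have := N.smul_mem (v 0)⁻¹ hvN
    convert this using 1
    funext i
    fin_cases i <;> simp [h0, h1, h2, h3]
  have m3 : (![0, 0, 0, 1] : Fin 4 → F) ∈ N := by
    have := hinv (W h) _ m0
    rw [nat_W] at this
    simpa using this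
  have m1 : (![0, 1, 0, 0] : Fin 4 → F) ∈ N := by
    have := N.sub_mem (N.sub_mem (hinv (T h 0 1) _ m3) m3) m0
    convert this using 1
    funext i
    fin_cases i <;> simp [nat_T h, fz_eq]
  have m2 : (![0, 0, 1, 0] : Fin 4 → F) ∈ N := by
    have := hinv (W h) _ m1
    rw [nat_W] at this
    simpa using this
  refine eq_top_iff.2 fun x _ => ?_
  rw [show x = x 0 • (![1, 0, 0, 0] : Fin 4 → F) + x 1 • ![0, 1, 0, 0] + x 2 • ![0, 0, 1, 0] +
    x 3 • ![0, 0, 0, 1] from funext fun i => by fin_cases i <;> simp]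
  exact N.add_mem (N.add_mem (N.add_mem (N.smul_mem _ m0) (N.smul_mem _ m1)) (N.smul_mem _ m2))
    (N.smul_mem _ m3)

/-- An irreducible module is a twist of the natural one. -/
theorem exists_nat [FiniteDimensional F V] [Nontrivial V] {ρ : Sz →* Module.End F V} (hρ : Rel5 h ρ)
    (hirr : ∀ N : Submodule F V, (∀ g, ∀ x ∈ N, ρ g x ∈ N) → N = ⊥ ∨ N = ⊤) :
    ∃ (σ : F →+* F) (e : V ≃ₗ[F] (Fin 4 → F)), IsHom ρ (nat σ) e.toLinearMap := by
  classical
  obtain ⟨v, χ, -, hv0, hv, hχ⟩ := exists_eigen_fixed h ρ (N := ⊤) top_ne_bot fun g x _ => trivial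
  obtain ⟨ψ, ξ, -, hψ0, hψ, hξ⟩ := exists_eigen_fixed h (dual ρ) (N := ⊤) top_ne_bot fun g x _ => trivial
  have hψT : ∀ a b x, ψ (ρ (T h a b) x) = ψ x := fun a b x => by
    have e := congrArg (fun φ : Module.Dual F V => φ (ρ (T h a b) x)) (hψ a b)
    simp only [dual_apply, rho_inv_apply] at e
    exact e.symm
  have hψH : ∀ k x, ψ (ρ (H h k) x) = ξ k⁻¹ * ψ x := fun k x => by
    have e := congrArg (fun φ : Module.Dual F V => φ x) (hξ k⁻¹)
    simp only [dual_apply, LinearMap.smul_apply, smul_eq_mul] at e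
    rwa [← H_inv, inv_inv] at e
  set c := ψ (ρ (W h) v) with hc
  have hψv : ψ v = 0 := fixed_kill h hρ hv hψ
  have hwk : ∀ k, ρ (W h) (ρ (H h k) v) = ρ (H h k⁻¹) (ρ (W h) v) := fun k => by
    rw [← rho_mul, ← rho_mul, ← W_conj_H h k, mul_assoc _ (W h), W_mul_self, mul_one]
  -- the values of `ψ` on the translates of `v`
  have hF : ∀ u : F × F, u ≠ 0 → ∃ l : Fˣ, (lam m l : F) = fz m u.1 u.2 ∧
      ψ (ρ (W h * T h u.1 u.2 * W h) v) = χ l * c := fun u hu => by
    obtain ⟨k, g, hk, e⟩ := exists_bruhat h hu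
    refine ⟨k⁻¹, hk, ?_⟩
    rw [e, rho_mul, hv, rho_mul, rho_mul, hψT, show ρ (H h k) (ρ (W h) v) = ρ (W h) (ρ (H h k⁻¹) v) by
      rw [hwk, inv_inv], hχ, map_smul, map_smul, smul_eq_mul]
  have hne : c ≠ 0 := by
    intro hc0
    have hall : ∀ g, ψ (ρ g v) = 0 := fun g => by
      by_cases hg : g ∈ borel F m
      · obtain ⟨a, b, k, rfl⟩ := borel_form h hg
        rw [rho_mul, hψT, hψH, hψv, mul_zero]
      · obtain ⟨x, z, a, b, k, rfl⟩ := bruhat h hg
        rw [rho_mul, rho_mul, rho_mul, hχ]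
        simp only [map_smul]
        rw [hv, hψT, ← hc, hc0, smul_zero]
    rcases hirr (Submodule.span F (Set.range fun g => ρ g v)) (fun g x hx => by
        induction hx using Submodule.span_induction with
        | mem x hx =>
          obtain ⟨g', rfl⟩ := hx
          exact Submodule.subset_span ⟨g * g', rho_mul _ _ _ _⟩
        | zero => rw [map_zero]; exact zero_mem _
        | add x z _ _ hx hz => rw [map_add]; exact add_mem hx hz
        | smul a x _ hx => rw [map_smul]; exact Submodule.smul_mem _ _ hx) with e | e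
    · exact hv0 ((Submodule.eq_bot_iff _).1 e v (Submodule.subset_span ⟨1, by simp⟩))
    · refine hψ0 (LinearMap.ext fun x => ?_)
      have hle : Submodule.span F (Set.range fun g => ρ g v) ≤ LinearMap.ker ψ := by
        rw [Submodule.span_le]; rintro _ ⟨g, rfl⟩; exact hall g
      exact hle (e ▸ Submodule.mem_top : x ∈ Submodule.span F (Set.range fun g => ρ g v))
  -- the weight of `v` is additive
  let li : Fˣ ≃* Fˣ := MulEquiv.ofBijective (lam m) (lam_bijective h)
  let P : F → F := fun x => if hx : x = 0 then 0 else χ (li.symm (Units.mk0 x hx))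
  have hP0 : P 0 = 0 := dif_pos rfl
  have hP : ∀ l : Fˣ, P (lam m l : F) = χ l := fun l => by
    simp only [P, dif_neg (lam m l).ne_zero, Units.mk0_val]
    exact congrArg χ (li.symm_apply_apply l)
  have hP1 : P 1 = 1 := by
    have := hP 1
    rwa [map_one, map_one, Units.val_one] at this
  have hPmul : ∀ a b, P (a * b) = P a * P b := fun a b => by
    by_cases ha : a = 0
    · rw [ha, zero_mul, hP0, zero_mul]
    by_cases hb : b = 0
    · rw [hb, mul_zero, hP0, mul_zero]
    simp only [P, dif_neg ha, dif_neg hb, dif_neg (mul_ne_zero ha hb), ← map_mul]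
    congr 2
    exact Units.ext rfl
  have hFu : ∀ a b, ψ (ρ (W h) (ρ (T h a b) (ρ (W h) v))) = P (fz m a b) * c := fun a b => by
    rw [← rho_mul, ← rho_mul]
    by_cases hu : (a, b) = (0 : F × F)
    · obtain ⟨rfl, rfl⟩ := Prod.mk_eq_zero.1 hu
      rw [T_zero, mul_one, W_mul_self, map_one, fz_eq]
      simpa [hP0] using hψv
    · obtain ⟨l, hl, e⟩ := hF (a, b) hu
      rw [e, ← hP, hl]
  have hsucc : ∀ x, P (x + 1) = P x + 1 := fun x => by
    set b := hθ m x with hb
    have hx : θ m b = x := h.θ_hθ x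
    have e := congrArg (fun z => ψ (ρ (W h) (ρ (T h 0 b) z))) (fixed_eq h hρ hv)
    simp only [map_add] at e
    rw [hv] at e
    simp only [← rho_mul (ρ := ρ) (T h (0 : F) b), T_mul] at e
    rw [← hc, hFu, hFu, hFu] at e
    simp only [add_zero, mul_zero, zero_add, θ_zero, zero_mul] at e
    rw [fz_succ h 1 b, show fz m 1 b + 1 + 1 = fz m 1 b by
      rw [add_assoc, h.add_self, add_zero]] at e
    have f0 : fz m (0 : F) b = x := by simp [fz_eq, hx]
    have f1 : fz m (0 : F) (b + 1) = x + 1 := by rw [fz_succ h, f0, add_zero]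
    rw [rho_mul ρ (T h (0 : F) b) (W h), hFu, f0, f1] at e
    have e' : (P x + P (x + 1)) * c = 1 * c := by
      linear_combination -e - P (fz m 1 b) * c * h.two_eq_zero
    have := mul_right_cancel₀ hne e'
    linear_combination this - P x * h.two_eq_zero
  let σ : F →+* F :=
    { toFun := P
      map_one' := hP1
      map_mul' := hPmul
      map_zero' := hP0
      map_add' := fun a b => by
        by_cases ha : a = 0
        · rw [ha, zero_add, hP0, zero_add]
        rw [show a + b = a * (b / a + 1) by field_simp; ring, hPmul, hsucc, mul_add, ← hPmul,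
          mul_div_cancel₀ b ha, mul_one, add_comm] }
  have hσ : ∀ l : Fˣ, σ (lam m l : F) = χ l := hP
  -- compare the functions on the group
  let ΦV : V →ₗ[F] (Sz → F) := LinearMap.pi fun g => ψ.comp (ρ g)
  let ΦN : (Fin 4 → F) →ₗ[F] (Sz → F) := LinearMap.pi fun g => (LinearMap.proj 3).comp (nat σ g)
  have hΦN : Function.Injective ΦN := by
    rw [← LinearMap.ker_eq_bot, Submodule.eq_bot_iff]
    intro x hx
    exact nat_coord_injective h σ fun g => congrFun (LinearMap.mem_ker.1 hx) g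
  set e0 : Fin 4 → F := ![1, 0, 0, 0] with he0
  have hnT : ∀ a b, nat σ (T h a b) e0 = e0 := fun a b => by
    rw [nat_T h]; funext i; fin_cases i <;> simp [he0]
  have hnH : ∀ k, nat σ (H h k) e0 = σ (lam m k) • e0 := fun k => by
    rw [nat_H h]; funext i; fin_cases i <;> simp [he0]
  have key : ΦV v = c • ΦN e0 := by
    funext g
    show ψ (ρ g v) = c * (nat σ g e0) 3
    by_cases hg : g ∈ borel F m
    · obtain ⟨a, b, k, rfl⟩ := borel_form h hg
      rw [rho_mul, hψT, hψH, hψv, mul_zero, rho_mul, hnH, map_smul, hnT]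
      simp [he0]
    · obtain ⟨x, z, a, b, k, rfl⟩ := bruhat h hg
      rw [rho_mul, rho_mul, rho_mul, hχ]
      simp only [map_smul]
      rw [hv, hψT, ← hc, rho_mul, rho_mul, rho_mul, hnH]
      simp only [map_smul]
      rw [hnT, nat_W h, nat_T h]
      simp [he0, hσ, mul_comm]
  have hVhom : ∀ g x g', ΦV (ρ g x) g' = ΦV x (g' * g) := fun g x g' => by
    show ψ (ρ g' (ρ g x)) = ψ (ρ (g' * g) x); rw [rho_mul]
  have hNhom : ∀ g x g', ΦN (nat σ g x) g' = ΦN x (g' * g) := fun g x g' => by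
    show nat σ g' (nat σ g x) 3 = nat σ (g' * g) x 3; rw [rho_mul]
  have hrange : ∀ x, ΦV x ∈ LinearMap.range ΦN := by
    have hspan : Submodule.comap ΦV (LinearMap.range ΦN) = ⊤ := by
      rcases hirr (Submodule.comap ΦV (LinearMap.range ΦN)) (fun g x hx => by
        obtain ⟨z, hz⟩ := hx
        refine ⟨nat σ g z, funext fun g' => ?_⟩
        rw [hNhom, hz, hVhom]) with e | e
      · exact absurd ((Submodule.eq_bot_iff _).1 e v ⟨c • e0, by rw [map_smul, key]⟩) hv0
      · exact e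
    exact fun x => (hspan ▸ Submodule.mem_top : x ∈ Submodule.comap ΦV (LinearMap.range ΦN))
  let f : V →ₗ[F] (Fin 4 → F) :=
    (LinearEquiv.ofInjective ΦN hΦN).symm.toLinearMap.comp (ΦV.codRestrict _ hrange)
  have hf : ∀ x, ΦN (f x) = ΦV x := fun x => by
    show ΦN ((LinearEquiv.ofInjective ΦN hΦN).symm ⟨ΦV x, hrange x⟩) = ΦV x
    exact congrArg Subtype.val ((LinearEquiv.ofInjective ΦN hΦN).apply_symm_apply ⟨ΦV x, hrange x⟩)
  have hfh : IsHom ρ (nat σ) f := fun g x => hΦN (funext fun g' => by rw [hf, hVhom, hNhom, hf])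
  have hfv : f v = c • e0 := hΦN (by rw [hf, key, map_smul])
  have he0' : c • e0 ≠ 0 := smul_ne_zero hne fun e => one_ne_zero (α := F) (congrFun e 0)
  have hker : LinearMap.ker f = ⊥ := by
    rcases hirr (LinearMap.ker f) (fun g x hx => by
      rw [LinearMap.mem_ker] at hx ⊢; rw [hfh, hx, map_zero]) with e | e
    · exact e
    · exact absurd (hfv ▸ (LinearMap.mem_ker.1 (e ▸ Submodule.mem_top : v ∈ LinearMap.ker f))) he0'
  have hran : LinearMap.range f = ⊤ := nat_irreducible h σ (fun g x hx => by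
    obtain ⟨z, rfl⟩ := hx; exact ⟨ρ g z, hfh g z⟩)
    fun e => he0' (hfv ▸ (Submodule.eq_bot_iff _).1 e _ ⟨v, rfl⟩)
  exact ⟨σ, LinearEquiv.ofBijective f ⟨LinearMap.ker_eq_bot.1 hker, LinearMap.range_eq_top.1 hran⟩, hfh⟩

end Cfsg.Agent.SzFpf
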