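import Cfsg.Agent.Lib.SzFpf.Basic

/-!
# Extensions of natural Suzuki modules split
-/

set_option autoImplicit false
set_option linter.unusedSectionVars false
set_option linter.style.haveILetI false

namespace Cfsg.Agent.SzFpf

open Cfsg.Agent.Suzuki

universe u v

variable {F : Type u} [Field F] [Fintype F] {m : ℕ} (h : SzField F m)

local notation "Sz" => Cfsg.Sz F m

/-! ### Endomorphisms of the field -/

theorem pair_eq {f g k l : F →+* F} (h2 : (2 : F) = 0) (hs : ∀ x, f x + g x = k x + l x)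
    (hp : ∀ x, f x * g x = k x * l x) : (f = k ∧ g = l) ∨ (f = l ∧ g = k) := by
  have hor : ∀ x, f x = k x ∨ f x = l x := fun x => by
    have : (f x - k x) * (f x - l x) = 0 := by linear_combination (f x) * (hs x) - hp x
    exact (mul_eq_zero.1 this).imp sub_eq_zero.1 sub_eq_zero.1
  by_cases h1 : ∀ x, f x = k x
  · exact Or.inl ⟨RingHom.ext h1, RingHom.ext fun x => by linear_combination hs x - h1 x⟩
  · push Not at h1
    obtain ⟨a, ha⟩ := h1
    have h3 : ∀ x, f x = l x := fun x => by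
      rcases hor x with e | e
      · rcases hor (x + a) with e' | e'
        · exact absurd (by rw [map_add, map_add, e] at e'; exact add_left_cancel e') ha
        · rw [map_add, map_add, (hor a).resolve_left ha] at e'
          exact add_right_cancel e'
      · exact e
    exact Or.inr ⟨RingHom.ext h3, RingHom.ext fun x => by linear_combination hs x - h3 x⟩

theorem indep_three {A B C : F →+* F} (hAC : A ≠ C) (hAB : A ≠ B) {a b c : F}
    (hall : ∀ x, a * A x + b * B x + c * C x = 0) : a = 0 := by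
  obtain ⟨z, hz⟩ : ∃ z, A z ≠ C z := by
    by_contra hcon; push Not at hcon; exact hAC (RingHom.ext hcon)
  obtain ⟨w, hw⟩ : ∃ w, A w ≠ B w := by
    by_contra hcon; push Not at hcon; exact hAB (RingHom.ext hcon)
  have e : ∀ x, a * (A z - C z) * A x + b * (B z - C z) * B x = 0 := fun x => by
    have := hall (z * x)
    rw [map_mul, map_mul, map_mul] at this
    linear_combination this - C z * hall x
  have e1 := e 1
  rw [map_one, map_one] at e1
  have : a * (A z - C z) * (A w - B w) = 0 := by linear_combination e w - B w * e1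
  rcases mul_eq_zero.1 this with e2 | e2
  · exact (mul_eq_zero.1 e2).resolve_right (sub_ne_zero.2 hz)
  · exact absurd (sub_eq_zero.1 e2) hw

include h

theorem theta_ne (x : F) (h0 : x ≠ 0) (h1 : x ≠ 1) : θ m x ≠ x := fun e => (h.θ_eq_self e).elim h0 h1

theorem hθ_θ_lam (k : F) : hθ m (θ m k) * θ m k = k * θ m k := by rw [h.hθ_θ]

/-- The twist behind a non-split cocycle. -/
theorem hom_twist {σ τ ω : F →+* F}
    (hkey : ∀ k : Fˣ, τ (lam m k : F) * ω (k : F) = σ (lam m k : F)) :
    (∀ x, σ x = ω (x * x)) ∧ ∀ x, σ x = τ (θ m x) := by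
  obtain ⟨a, ha0, ha1, ha2⟩ := exists_ne h
  set B := τ.comp (thetaHom h) with hB
  set C := ω.comp (thetaHom h) with hC
  set S := σ.comp (thetaHom h) with hS
  have hP : ∀ x, τ x * B x * C x = σ x * S x := fun x => by
    by_cases hx : x = 0
    · subst hx; simp
    have hk := hkey (Units.mk0 (θ m x) (θ_ne_zero m hx))
    rw [lam_coe, Units.val_mk0, h.hθ_θ, map_mul, map_mul] at hk
    exact hk
  have hsum : ∀ x, σ x + S x = τ x * B x + τ x * C x + B x * C x + τ x + B x + C x := fun x => by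
    have e := hP (x + 1)
    rw [map_add, map_add, map_add, map_add, map_add, map_one, map_one, map_one, map_one, map_one] at e
    linear_combination hP x - e
  have hne : τ ≠ B := fun e => by
    have := RingHom.congr_fun e a
    exact theta_ne h a ha0 ha1 (τ.injective this).symm
  haveI := h.charP
  by_cases hCA : C = τ
  · have hs : ∀ x, σ x + S x = (τ.comp (frobenius F 2)) x + B x := fun x => by
      haveI := h.charP
      simp only [hsum, hCA, RingHom.comp_apply, frobenius_def, map_pow]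
      linear_combination (τ x * B x + τ x) * h.two_eq_zero
    haveI := h.charP
    have hp : ∀ x, σ x * S x = (τ.comp (frobenius F 2)) x * B x := fun x => by
      simp only [← hP, hCA, RingHom.comp_apply, frobenius_def, map_pow]; ring
    rcases pair_eq h.two_eq_zero hs hp with ⟨e1, e2⟩ | ⟨e1, e2⟩
    · exfalso
      have e := RingHom.congr_fun e2 a
      simp only [hS, hB, RingHom.comp_apply, thetaHom_apply, e1, frobenius_def] at e
      exact ((h.sq_eq_self (τ.injective e)).elim (θ_ne_zero m ha0)) fun e' => ha1 (h.θ_injective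
        (e'.trans (θ_one m).symm))
    · refine ⟨fun x => ?_, fun x => RingHom.congr_fun e1 x⟩
      have e := RingHom.congr_fun hCA (θ m x)
      simp only [hC, RingHom.comp_apply, thetaHom_apply, h.θ_θ] at e
      rw [← pow_two, e]
      exact RingHom.congr_fun e1 x
  · by_cases hCB : C = B
    · exfalso
      haveI := h.charP
      have hs : ∀ x, σ x + S x = (B.comp (frobenius F 2)) x + τ x := fun x => by
        simp only [hsum, hCB, hB, RingHom.comp_apply, frobenius_def, map_pow]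
        linear_combination (τ x * B x + B x) * h.two_eq_zero
      have hp : ∀ x, σ x * S x = (B.comp (frobenius F 2)) x * τ x := fun x => by
        simp only [← hP, hCB, hB, RingHom.comp_apply, frobenius_def, map_pow]; ring
      rcases pair_eq h.two_eq_zero hs hp with ⟨e1, e2⟩ | ⟨e1, e2⟩
      · have e := RingHom.congr_fun e2 a
        simp only [hS, hB, RingHom.comp_apply, thetaHom_apply, e1, frobenius_def, θ_pow, h.θ_θ] at e
        have e' : (a ^ 2) ^ 2 = a := τ.injective e
        have : a * (a - 1) * (a ^ 2 + a + 1) = 0 := by linear_combination e'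
        rcases mul_eq_zero.1 this with e3 | e3
        · exact (mul_eq_zero.1 e3).elim ha0 fun e4 => ha1 (sub_eq_zero.1 e4)
        · exact ha2 e3
      · have e := RingHom.congr_fun e2 a
        simp only [hS, hB, RingHom.comp_apply, thetaHom_apply, e1, frobenius_def] at e
        have e' : θ m a = θ m (a ^ 2) := τ.injective (by rw [e, θ_pow])
        exact (h.sq_eq_self (h.θ_injective e').symm).elim ha0 ha1
    · exfalso
      have hb : ∀ y, B y + C y = 0 := fun y =>
        indep_three (A := τ) (B := B) (C := C) (Ne.symm hCA) hne (b := τ y + C y) (c := τ y + B y) fun x => by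
          have e := hsum (x + y)
          rw [map_add, map_add, map_add, map_add, map_add] at e
          linear_combination hsum x + hsum y - e
      exact hCB (RingHom.ext fun y => (h.eq_iff_add_eq_zero _ _).2 ((add_comm _ _).trans (hb y)))

theorem exists_norm {x : F} (hx : x ≠ 0) : ∃ k : Fˣ, θ m (k : F) * (k : F) = x := by
  obtain ⟨l, hl⟩ := (lam_bijective h).2 (Units.mk0 x hx)
  refine ⟨Units.mk0 (hθ m (l : F)) (hθ_ne_zero m l.ne_zero), ?_⟩
  rw [Units.val_mk0, h.θ_hθ, mul_comm, ← lam_coe, hl, Units.val_mk0]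

theorem mk_endo {g : F → F} (hadd : ∀ x y, g (x + y) = g x + g y) (h1 : g 1 ≠ 0)
    (hmul : ∀ x y, g (x * y) * g 1 = g x * g y) : ∃ ω : F →+* F, ∀ x, g x = g 1 * ω x := by
  refine ⟨{ toFun := fun x => g x / g 1, map_one' := div_self h1, map_mul' := fun x y => ?_,
            map_zero' := ?_, map_add' := fun x y => by rw [hadd, add_div] }, fun x => ?_⟩
  · rw [div_mul_div_comm, ← hmul, mul_div_mul_right _ _ h1]
  · have := hadd 0 0
    rw [add_zero, left_eq_add] at this
    rw [this, zero_div]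
  · show g x = g 1 * (g x / g 1)
    rw [mul_div_cancel₀ _ h1]

omit h

/-! ### The pairing of natural modules -/

/-- The invariant form of the natural module. -/
def jmap : (Fin 4 → F) →ₗ[F] Module.Dual F (Fin 4 → F) where
  toFun x :=
    { toFun := fun y => x 0 * y 3 + x 1 * y 2 + x 2 * y 1 + x 3 * y 0
      map_add' := fun y z => by simp [mul_add]; ring
      map_smul' := fun c y => by simp; ring }
  map_add' x z := LinearMap.ext fun y => by simp [add_mul]; ring
  map_smul' c x := LinearMap.ext fun y => by simp [mul_add]; ring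

theorem jmap_apply (x y : Fin 4 → F) : jmap x y = x 0 * y 3 + x 1 * y 2 + x 2 * y 1 + x 3 * y 0 := rfl

theorem jmap_injective : Function.Injective (jmap (F := F)) := fun x y e => by
  funext i
  have := fun z : Fin 4 → F => LinearMap.congr_fun e z
  fin_cases i
  · simpa [jmap_apply] using this ![0, 0, 0, 1]
  · simpa [jmap_apply] using this ![0, 0, 1, 0]
  · simpa [jmap_apply] using this ![0, 1, 0, 0]
  · simpa [jmap_apply] using this ![1, 0, 0, 0]

include h

theorem jmap_invariant (σ : F →+* F) (g : Sz) : ∀ x y, jmap (nat σ g x) (nat σ g y) = jmap x y := by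
  refine gen_induction h (p := fun g => ∀ x y, jmap (nat σ g x) (nat σ g y) = jmap x y) (fun a b x y => ?_)
    (fun k x y => ?_) (fun x y => ?_) (fun g k hg hk x y => by rw [rho_mul, rho_mul, hg, hk]) g
  · simp only [nat_T h, jmap_apply, map_add, map_mul, fz_eq, map_pow]
    simp
    ring_nf
    simp [h.two_eq_zero, show (4 : F) = 0 by linear_combination 2 * h.two_eq_zero]
  · have h1 : σ (lam m k : F) ≠ 0 := (map_ne_zero σ).2 (lam m k).ne_zero
    have h2 : σ (hθ m (k : F)) ≠ 0 := (map_ne_zero σ).2 (hθ_ne_zero m k.ne_zero)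
    simp only [nat_H h, jmap_apply]
    simp
    field_simp
  · simp only [nat_W h, jmap_apply]
    simp
    ring

theorem jmap_hom (σ : F →+* F) : IsHom (nat σ) (dual (nat (m := m) σ)) jmap := fun g x => by
  refine LinearMap.ext fun y => ?_
  rw [dual_apply]
  conv_lhs => rw [← rho_apply_inv (nat σ) g y]
  rw [jmap_invariant h]

omit h

/-! ### Extensions -/

variable {V : Type v} [AddCommGroup V] [Module F V]

/-- An extension of a natural module by a natural module. -/
structure Ext (ρ : Sz →* Module.End F V) (σ τ : F →+* F) (f : (Fin 4 → F) →ₗ[F] V)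
    (p : V →ₗ[F] (Fin 4 → F)) : Prop where
  fhom : IsHom (nat σ) ρ f
  phom : IsHom ρ (nat τ) p
  finj : Function.Injective f
  psurj : Function.Surjective p
  ker_eq : LinearMap.ker p = LinearMap.range f

variable {ρ : Cfsg.Sz F m →* Module.End F V} {σ τ : F →+* F} {f : (Fin 4 → F) →ₗ[F] V} {p : V →ₗ[F] (Fin 4 → F)}

theorem Ext.pf (E : Ext ρ σ τ f p) (x : Fin 4 → F) : p (f x) = 0 :=
  LinearMap.mem_ker.1 (SetLike.le_def.1 E.ker_eq.ge ⟨x, rfl⟩)

include h

theorem Ext.dualExt [FiniteDimensional F V] (E : Ext ρ σ τ f p) :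
    ∃ p' : Module.Dual F V →ₗ[F] (Fin 4 → F), Ext (dual ρ) τ σ (p.dualMap.comp jmap) p' ∧
      (∀ φ x, jmap (p' φ) x = φ (f x)) := by
  let p' : Module.Dual F V →ₗ[F] (Fin 4 → F) :=
    { toFun := fun φ => ![φ (f ![1, 0, 0, 0]), φ (f ![0, 1, 0, 0]), φ (f ![0, 0, 1, 0]), φ (f ![0, 0, 0, 1])] ∘ ![3, 2, 1, 0]
      map_add' := fun φ ψ => funext fun i => by fin_cases i <;> simp
      map_smul' := fun c φ => funext fun i => by fin_cases i <;> simp }
  have hj : ∀ φ x, jmap (p' φ) x = φ (f x) := fun φ x => by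
    conv_rhs => rw [show x = x 0 • (![1, 0, 0, 0] : Fin 4 → F) + x 1 • ![0, 1, 0, 0] + x 2 • ![0, 0, 1, 0] +
      x 3 • ![0, 0, 0, 1] from funext fun i => by fin_cases i <;> simp]
    simp only [map_add, map_smul, smul_eq_mul]
    simp [p', jmap_apply]
    ring
  refine ⟨p', ⟨fun g x => ?_, fun g φ => jmap_injective ?_, ?_, ?_, ?_⟩, hj⟩
  · refine LinearMap.ext fun y => ?_
    show jmap (nat τ g x) (p y) = jmap x (p (ρ g⁻¹ y))
    rw [E.phom, jmap_hom h τ g x, dual_apply]
  · refine LinearMap.ext fun y => ?_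
    rw [hj, jmap_hom h σ g, dual_apply, dual_apply, hj, E.fhom]
  · exact (LinearMap.dualMap_injective_of_surjective E.psurj).comp jmap_injective
  · intro x
    obtain ⟨φ, hφ⟩ := LinearMap.dualMap_surjective_of_injective E.finj (jmap x)
    refine ⟨φ, jmap_injective (LinearMap.ext fun y => ?_)⟩
    rw [hj, ← hφ, LinearMap.dualMap_apply]
  · have hjs : LinearMap.range (jmap (F := F)) = ⊤ := by
      refine Submodule.eq_top_of_finrank_eq ?_
      rw [LinearMap.finrank_range_of_inj jmap_injective, Subspace.dual_finrank_eq]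
    rw [LinearMap.range_comp, hjs, Submodule.map_top, LinearMap.range_dualMap_eq_dualAnnihilator_ker,
      E.ker_eq, ← LinearMap.ker_dualMap_eq_dualAnnihilator_range]
    ext φ
    simp only [LinearMap.mem_ker]
    exact ⟨fun e => LinearMap.ext fun x => by rw [LinearMap.dualMap_apply, ← hj, e]; simp,
      fun e => jmap_injective (LinearMap.ext fun x => by
        rw [hj, map_zero, LinearMap.zero_apply]
        exact LinearMap.congr_fun e x)⟩

/-- The cocycle of a weight lift of the top vector. -/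
theorem Ext.cocycle (E : Ext ρ σ τ f p) {v : V} (hv : p v = ![1, 0, 0, 0])
    (hχ : Eigen h ρ (fun k => τ (lam m k : F)) v) :
    ∃ κ : F → F → (Fin 4 → F), (∀ a b, ρ (T h a b) v = v + f (κ a b)) ∧
      (∀ a b c d, κ (a + c) (b + d + θ m a * c) = κ a b + nat σ (T h a b) (κ c d)) ∧
      ∀ (k : Fˣ) a b, nat σ (Suzuki.H h k) (κ a b) =
        τ (lam m k : F) • κ ((k : F) * a) (θ m (k : F) * k * b) := by
  have hex : ∀ a b, ∃ x, f x = ρ (T h a b) v - v := fun a b => by
    have : ρ (T h a b) v - v ∈ LinearMap.range f := by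
      rw [← E.ker_eq, LinearMap.mem_ker, map_sub, E.phom, hv, sub_eq_zero, nat_T h]
      funext i; fin_cases i <;> simp
    exact this
  choose κ hκ using hex
  have hT : ∀ a b, ρ (T h a b) v = v + f (κ a b) := fun a b => by rw [hκ, add_sub_cancel]
  refine ⟨κ, hT, fun a b c d => E.finj ?_, fun k a b => E.finj ?_⟩
  · rw [map_add, E.fhom, hκ, hκ, hκ, ← T_mul h, rho_mul, map_sub]
    abel
  · rw [E.fhom, hκ, map_smul, hκ, ← H_conj_T h k a b, rho_mul, rho_mul, map_sub, hχ k]
    have : ρ (Suzuki.H h k)⁻¹ v = τ (lam m k⁻¹ : F) • v := by rw [H_inv]; exact hχ k⁻¹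
    rw [this, map_smul, map_smul, smul_sub, smul_smul, ← map_mul τ, ← Units.val_mul, ← map_mul, mul_inv_cancel,
      map_one, Units.val_one, map_one, one_smul]

theorem Ext.facts (E : Ext ρ σ τ f p) {κ : F → F → (Fin 4 → F)}
    (hc : ∀ a b c d, κ (a + c) (b + d + θ m a * c) = κ a b + nat σ (T h a b) (κ c d))
    (hH : ∀ (k : Fˣ) a b, nat σ (Suzuki.H h k) (κ a b) =
      τ (lam m k : F) • κ ((k : F) * a) (θ m (k : F) * k * b)) :
    (∀ a b, κ a b 2 = 0 ∧ κ a b 3 = 0) ∧ (∀ a b, κ a b 1 = κ a 0 1) := by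
  have hcomp : ∀ a b c d, κ (a + c) (b + d + θ m a * c) = ![κ a b 0 + (κ c d 0 + σ a * κ c d 1 +
      σ (b + θ m a * a) * κ c d 2 + σ (fz m a b) * κ c d 3),
      κ a b 1 + (κ c d 1 + σ (θ m a) * κ c d 2 + σ b * κ c d 3),
      κ a b 2 + (κ c d 2 + σ a * κ c d 3), κ a b 3 + κ c d 3] := fun a b c d => by
    rw [hc, nat_T h]
    funext i
    fin_cases i <;> simp
  have h00 : κ 0 0 = 0 := by
    have := hc 0 0 0 0
    rw [T_zero, map_one] at this
    simpa using this
  have ht : ∀ b, κ 0 b 2 = 0 ∧ κ 0 b 3 = 0 := fun b => by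
    by_cases hb : b = 0
    · rw [hb, h00]; exact ⟨rfl, rfl⟩
    have e := hcomp 0 b 0 b
    simp only [θ_zero, zero_mul, add_zero, h.add_self, h00] at e
    have hσb : σ b ≠ 0 := (map_ne_zero σ).2 hb
    have e1 : 0 = κ 0 b 1 + (κ 0 b 1 + σ b * κ 0 b 3) := by simpa using congrFun e 1
    have e3 : κ 0 b 3 = 0 := (mul_eq_zero.1 (show σ b * κ 0 b 3 = 0 by
      linear_combination -e1 - κ 0 b 1 * h.two_eq_zero)).resolve_left hσb
    have e0 : 0 = κ 0 b 0 + (κ 0 b 0 + σ b * κ 0 b 2) := by simpa [e3] using congrFun e 0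
    exact ⟨(mul_eq_zero.1 (show σ b * κ 0 b 2 = 0 by
      linear_combination -e0 - κ 0 b 0 * h.two_eq_zero)).resolve_left hσb, e3⟩
  have hsplit : ∀ a b, κ a b = κ a 0 + nat σ (T h a 0) (κ 0 b) := fun a b => by
    have := hc a 0 0 b
    simpa using this
  have h3 : ∀ a, κ a 0 3 = 0 := fun a => by
    by_cases ha : a = 0
    · rw [ha, h00]; rfl
    have e := congrFun (hcomp a 0 a 0) 2
    simp only [h.add_self, zero_add, add_zero] at e
    have : σ a * κ a 0 3 = 0 := by
      rw [(ht _).1] at e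
      simp at e
      linear_combination -e - κ a 0 2 * h.two_eq_zero
    exact (mul_eq_zero.1 this).resolve_left ((map_ne_zero σ).2 ha)
  -- commuting with the centre
  have hC : ∀ a b, σ a * κ 0 b 1 = σ b * κ a 0 2 := fun a b => by
    have e1 := congrFun (hcomp a 0 0 b) 0
    have e2 := congrFun (hcomp 0 b a 0) 0
    simp only [add_zero, zero_add, mul_zero, θ_zero, zero_mul, (ht b).1, (ht b).2, h3] at e1 e2
    simp at e1 e2
    rw [e1] at e2
    linear_combination e2
  have hC0 : κ 1 0 2 = 0 := by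
    by_contra hne
    obtain ⟨a, ha0, ha1, ha2⟩ := exists_ne h
    have key : ∀ k : Fˣ, τ (lam m k : F) * σ (lam m k : F) = 1 := fun k => by
      have e := congrFun (hH k 1 0) 2
      rw [nat_H h] at e
      simp only [mul_one, mul_zero, Pi.smul_apply, smul_eq_mul] at e
      have e21 := hC (k : F) 1
      have e22 := hC 1 1
      simp only [map_one, one_mul] at e21 e22
      rw [← e21, e22] at e
      simp at e
      have hμ : σ (hθ m (k : F)) ≠ 0 := (map_ne_zero σ).2 (hθ_ne_zero m k.ne_zero)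
      field_simp at e
      rw [lam_coe, map_mul σ]
      have e' : κ 1 0 2 * (τ (lam m k : F) * (σ (hθ m (k : F)) * σ (k : F))) = κ 1 0 2 * 1 := by
        rw [lam_coe] at e ⊢
        linear_combination -(κ 1 0 2) * e
      exact mul_left_cancel₀ hne e'
    have hall : ∀ x : F, x ≠ 0 → τ x * σ x = 1 := fun x hx => by
      obtain ⟨k, hk⟩ := (lam_bijective h).2 (Units.mk0 x hx)
      have := key k
      rwa [hk, Units.val_mk0] at this
    have hτa : τ a ≠ 0 := (map_ne_zero τ).2 ha0
    have e1 := hall (a + 1) fun e => ha1 ((h.eq_iff_add_eq_zero _ _).2 e)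
    rw [map_add, map_add, map_one, map_one] at e1
    have e2 : τ a + σ a + 1 = 0 := by linear_combination e1 - hall a ha0
    exact ha2 (τ.injective (by
      rw [map_zero, map_add, map_add, map_pow, map_one]
      linear_combination τ a * e2 - hall a ha0))
  have h2 : ∀ a, κ a 0 2 = 0 := fun a => by
    have e21 := hC a 1
    have e22 := hC 1 1
    simp only [map_one, one_mul] at e21 e22
    rw [← e21, e22, hC0, mul_zero]
  have h1t : ∀ b, κ 0 b 1 = 0 := fun b => by
    have := hC 1 b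
    rwa [map_one, one_mul, h2, mul_zero] at this
  refine ⟨fun a b => ?_, fun a b => ?_⟩
  · rw [hsplit, nat_T h]
    simp [(ht b).1, (ht b).2, h2, h3]
  · rw [hsplit, nat_T h]
    simp [(ht b).1, (ht b).2, h1t]

/-- A weight lift whose cocycle has at most a homomorphism in the top coordinate. -/
theorem Ext.normal [FiniteDimensional F V] (E : Ext ρ σ τ f p) :
    ∃ v, p v = ![1, 0, 0, 0] ∧ Eigen h ρ (fun k => τ (lam m k : F)) v ∧
      (Fixed h ρ v ∨ ∃ (c : F) (ω : F →+* F), c ≠ 0 ∧ (∀ x, σ x = ω (x * x)) ∧ (∀ x, σ x = τ (θ m x)) ∧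
        ∀ a b, ρ (T h a b) v = v + (c * ω a) • f ![1, 0, 0, 0]) := by
  classical
  -- a weight lift without middle coordinate
  obtain ⟨v, κ, hv, hχ, hT, hc, hH, hK1⟩ : ∃ (v : V) (κ : F → F → (Fin 4 → F)), p v = ![1, 0, 0, 0] ∧
      Eigen h ρ (fun k => τ (lam m k : F)) v ∧ (∀ a b, ρ (T h a b) v = v + f (κ a b)) ∧
      (∀ a b c d, κ (a + c) (b + d + θ m a * c) = κ a b + nat σ (T h a b) (κ c d)) ∧
      (∀ (k : Fˣ) a b, nat σ (Suzuki.H h k) (κ a b) =
        τ (lam m k : F) • κ ((k : F) * a) (θ m (k : F) * k * b)) ∧ κ 1 0 1 = 0 := by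
    obtain ⟨v0, hv0⟩ := E.psurj ![1, 0, 0, 0]
    let χ : Fˣ →* F := (τ : F →* F).comp ((Units.coeHom F).comp (lam m))
    have hχk : ∀ k, χ k = τ (lam m k : F) := fun k => rfl
    have hp1 : p (avg h ρ χ v0) = ![1, 0, 0, 0] := by
      simp only [avg, map_sum, map_smul]
      have : ∀ k : Fˣ, χ k⁻¹ • p (ρ (Suzuki.H h k) v0) = ![1, 0, 0, 0] := fun k => by
        rw [E.phom, hv0, nat_H h, hχk, map_inv, Units.val_inv_eq_inv_val, map_inv₀]
        funext i
        fin_cases i <;> simp
      rw [Finset.sum_congr rfl fun k _ => this k, Finset.sum_const, Finset.card_univ, Fintype.card_units,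
        ← Nat.cast_smul_eq_nsmul F, card_sub_one_eq_one h, one_smul]
    have hχ1 : Eigen h ρ (fun k => τ (lam m k : F)) (avg h ρ χ v0) := eigen_avg h ρ χ v0
    set v1 := avg h ρ χ v0
    obtain ⟨κ, hT, hc, hH⟩ := E.cocycle h hp1 hχ1
    obtain ⟨hF, hF1⟩ := E.facts h hc hH
    by_cases hD : κ 1 0 1 = 0
    · exact ⟨v1, κ, hp1, hχ1, hT, hc, hH, hD⟩
    set D := κ 1 0 1 with hDdef
    have hcomp : ∀ a b c d, κ (a + c) (b + d + θ m a * c) 0 = κ a b 0 + κ c d 0 + σ a * κ c d 1 ∧
        κ (a + c) (b + d + θ m a * c) 1 = κ a b 1 + κ c d 1 := fun a b c d => by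
      rw [hc, nat_T h]
      constructor <;> simp [(hF c d).1, (hF c d).2, add_assoc]
    have hAdd : ∀ a c, κ (a + c) 0 1 = κ a 0 1 + κ c 0 1 := fun a c => by
      have := (hcomp a 0 c 0).2
      rwa [hF1] at this
    have hw1 : ∀ (k : Fˣ) a, σ (hθ m (k : F)) * κ a 0 1 = τ (lam m k : F) * κ ((k : F) * a) 0 1 := fun k a => by
      have := congrFun (hH k a 0) 1
      rw [nat_H h] at this
      simpa using this
    have hk1 : ∀ k : Fˣ, σ (hθ m (k : F)) * D = τ (lam m k : F) * κ (k : F) 0 1 := fun k => by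
      simpa using hw1 k 1
    have hτne : ∀ k : Fˣ, τ (lam m k : F) ≠ 0 := fun k => (map_ne_zero τ).2 (lam m k).ne_zero
    obtain ⟨ω, hω⟩ := mk_endo h (g := fun a => κ a 0 1) hAdd hD fun x y => by
      by_cases hx : x = 0
      · have h0 : κ 0 0 1 = 0 := by simpa using hAdd 0 0
        simp [hx, h0]
      refine mul_left_cancel₀ (hτne (Units.mk0 x hx)) ?_
      have e1 := hw1 (Units.mk0 x hx) y
      have e2 := hk1 (Units.mk0 x hx)
      rw [Units.val_mk0] at e1 e2
      show _ * (κ (x * y) 0 1 * D) = _ * (κ x 0 1 * κ y 0 1)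
      linear_combination κ y 0 1 * e2 - D * e1
    have hω' : ∀ x, κ x 0 1 = D * ω x := hω
    have hK0 : ∀ b b', κ 0 (b + b') 0 = κ 0 b 0 + κ 0 b' 0 := fun b b' => by
      simpa using (hcomp 0 b 0 b').1
    have hsq : ∀ a, κ 0 (θ m a * a) 0 = D * (σ a * ω a) := fun a => by
      have := (hcomp a 0 a 0).1
      simp only [h.add_self, zero_add] at this
      rw [this, hω']; ring
    have hC0 : κ 0 1 0 = D := by simpa using hsq 1
    have hw0 : ∀ (k : Fˣ) b, σ (lam m k : F) * κ 0 b 0 =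
        τ (lam m k : F) * κ 0 (θ m (k : F) * k * b) 0 := fun k b => by
      have := congrFun (hH k 0 b) 0
      rw [nat_H h] at this
      simpa using this
    obtain ⟨η, hη⟩ := mk_endo h (g := fun b => κ 0 b 0) hK0 (by show κ 0 1 0 ≠ 0; rwa [hC0]) fun x y => by
      by_cases hx : x = 0
      · have h0 : κ 0 0 0 = 0 := by simpa using hK0 0 0
        simp [hx, h0]
      obtain ⟨k, rfl⟩ := exists_norm h hx
      have e1 := hw0 k y
      have e2 := hw0 k 1
      rw [mul_one] at e2
      refine mul_left_cancel₀ (hτne k) ?_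
      show _ * (κ 0 (θ m (k : F) * k * y) 0 * κ 0 1 0) = _ * (κ 0 (θ m (k : F) * k) 0 * κ 0 y 0)
      linear_combination κ 0 y 0 * e2 - κ 0 1 0 * e1
    have hη' : ∀ a, η (θ m a) * η a = σ a * ω a := fun a => by
      have e : κ 0 (θ m a * a) 0 = κ 0 1 0 * η (θ m a * a) := hη _
      rw [hsq, hC0, map_mul] at e
      exact (mul_left_cancel₀ hD e).symm
    have hsum : ∀ a, (η.comp (thetaHom h)) a + η a = σ a + ω a := fun a => by
      have e := hη' (a + 1)
      simp only [h.θ_add, θ_one, map_add, map_one] at e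
      simp only [RingHom.comp_apply, thetaHom_apply]
      linear_combination e - hη' a
    rcases pair_eq h.two_eq_zero hsum (fun a => by simpa [thetaHom_apply] using hη' a) with ⟨e1, e2⟩ | ⟨e1, e2⟩
    · -- this twist makes the weight trivial
      exfalso
      have hall : ∀ x : F, x ≠ 0 → τ x = 1 := fun x hx => by
        obtain ⟨k, hk⟩ := (lam_bijective h).2 (Units.mk0 x hx)
        have e := hk1 k
        rw [hω', ← RingHom.congr_fun e1 (hθ m (k : F)), ← RingHom.congr_fun e2] at e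
        simp only [RingHom.comp_apply, thetaHom_apply, h.θ_hθ] at e
        rw [hk, Units.val_mk0] at e
        have hne : η (k : F) * D ≠ 0 := mul_ne_zero ((map_ne_zero η).2 k.ne_zero) hD
        refine (mul_right_cancel₀ hne ?_).symm
        linear_combination e
      obtain ⟨a, ha0, ha1, -⟩ := exists_ne h
      exact ha1 (τ.injective ((hall a ha0).trans (map_one τ).symm))
    have hwt : ∀ k : Fˣ, τ (lam m k : F) = (σ (hθ m (k : F)))⁻¹ := fun k => by
      have e := hk1 k
      rw [hω', ← RingHom.congr_fun e1] at e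
      simp only [RingHom.comp_apply, thetaHom_apply, RingHom.congr_fun e2] at e
      have hμ : σ (hθ m (k : F)) ≠ 0 := (map_ne_zero σ).2 (hθ_ne_zero m k.ne_zero)
      rw [← hθ_sq, map_mul] at e
      refine eq_inv_of_mul_eq_one_left (mul_right_cancel₀ (mul_ne_zero hμ hD) ?_)
      linear_combination -e
    set w : Fin 4 → F := D • ![0, 0, 1, 0] with hw
    have hp2 : p (v1 + f w) = ![1, 0, 0, 0] := by rw [map_add, E.pf, add_zero, hp1]
    have hχ2 : Eigen h ρ (fun k => τ (lam m k : F)) (v1 + f w) := fun k => by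
      rw [map_add, hχ1, ← E.fhom, smul_add, ← map_smul f]
      congr 2
      rw [hw, nat_H h]
      funext i
      fin_cases i <;> simp [hwt]
    obtain ⟨κ', hT', hc', hH'⟩ := E.cocycle h hp2 hχ2
    refine ⟨_, κ', hp2, hχ2, hT', hc', hH', ?_⟩
    have e : f (κ' 1 0) = f (κ 1 0 + nat σ (T h 1 0) w - w) := by
      have := hT' 1 0
      rw [map_add, hT, ← E.fhom] at this
      rw [map_sub, map_add]
      rw [eq_sub_iff_add_eq]
      calc f (κ' 1 0) + f w = (v1 + f w + f (κ' 1 0)) - v1 := by abel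
        _ = _ := by rw [← this]; abel
    rw [E.finj e, hw, nat_T h]
    simp
    show κ 1 0 1 + D = 0
    rw [← hDdef, h.add_self]
  obtain ⟨hF, hF1⟩ := E.facts h hc hH
  refine ⟨v, hv, hχ, ?_⟩
  have hK1' : ∀ a, κ a 0 1 = 0 := fun a => by
    by_cases ha : a = 0
    · subst ha
      have := congrFun (hc 0 0 0 0) 1
      rw [T_zero, map_one] at this
      simpa using this
    have e := congrFun (hH (Units.mk0 a ha) 1 0) 1
    rw [nat_H h] at e
    simp [hK1, (map_ne_zero τ).2 (lam m (Units.mk0 a ha)).ne_zero] at e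
    exact e
  have h1 : ∀ a b, κ a b 1 = 0 := fun a b => (hF1 a b).trans (hK1' a)
  have hcomp : ∀ a b c d, κ (a + c) (b + d + θ m a * c) 0 = κ a b 0 + κ c d 0 := fun a b c d => by
    rw [hc, nat_T h]
    simp [(hF c d).1, (hF c d).2, h1 c d]
  have h00 : κ 0 0 0 = 0 := by simpa using hcomp 0 0 0 0
  have ht : ∀ b, κ 0 b 0 = 0 := fun b => by
    by_cases hb : b = 0
    · rw [hb, h00]
    obtain ⟨k, rfl⟩ := exists_norm h hb
    have := hcomp (k : F) 0 (k : F) 0
    simpa [h.add_self] using this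
  have hK : ∀ a b, κ a b 0 = κ a 0 0 := fun a b => by
    have := hcomp a 0 0 b
    simpa [ht] using this
  have hκ : ∀ a b, κ a b = κ a 0 0 • ![1, 0, 0, 0] := fun a b => by
    funext i
    fin_cases i <;> simp [hK a b, h1 a b, hF a b]
  by_cases hc0 : κ 1 0 0 = 0
  · left
    intro a b
    rw [hT, hκ]
    suffices κ a 0 0 = 0 by rw [this, zero_smul, map_zero, add_zero]
    by_cases ha : a = 0
    · rw [ha, h00]
    have e := congrFun (hH (Units.mk0 a ha) 1 0) 0
    rw [nat_H h] at e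
    simp [hc0, (map_ne_zero τ).2 (lam m (Units.mk0 a ha)).ne_zero] at e
    exact e
  right
  have hadd : ∀ a c, κ (a + c) 0 0 = κ a 0 0 + κ c 0 0 := fun a c => by
    have := hcomp a 0 c 0
    rwa [hK] at this
  have hw : ∀ (k : Fˣ) a, σ (lam m k : F) * κ a 0 0 = τ (lam m k : F) * κ ((k : F) * a) 0 0 := fun k a => by
    have := congrFun (hH k a 0) 0
    rw [nat_H h] at this
    simpa using this
  obtain ⟨ω, hω⟩ := mk_endo h (g := fun a => κ a 0 0) hadd hc0 fun x y => by
    by_cases hx : x = 0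
    · simp [hx, h00]
    have e1 := hw (Units.mk0 x hx) y
    have e2 := hw (Units.mk0 x hx) 1
    rw [mul_one, Units.val_mk0] at e2
    rw [Units.val_mk0] at e1
    refine mul_left_cancel₀ ((map_ne_zero τ).2 (lam m (Units.mk0 x hx)).ne_zero) ?_
    show _ * (κ (x * y) 0 0 * κ 1 0 0) = _ * (κ x 0 0 * κ y 0 0)
    linear_combination κ y 0 0 * e2 - κ 1 0 0 * e1
  obtain ⟨hω1, hω2⟩ := hom_twist h (σ := σ) (τ := τ) (ω := ω) fun k => by
    have e := hw k 1
    rw [mul_one, show κ (k : F) 0 0 = κ 1 0 0 * ω k from hω _] at e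
    refine mul_right_cancel₀ hc0 ?_
    linear_combination -e
  refine ⟨κ 1 0 0, ω, hc0, hω1, hω2, fun a b => ?_⟩
  rw [hT, hκ, map_smul, show κ a 0 0 = κ 1 0 0 * ω a from hω _]

/-- A fixed lift on one side excludes a homomorphism on the other. -/
theorem Ext.no_hom (E : Ext ρ σ τ f p) (hρ : Rel5 h ρ) {v : V} (hv : p v = ![1, 0, 0, 0])
    (hχ : Eigen h ρ (fun k => τ (lam m k : F)) v) (hfix : Fixed h ρ v) {ψ : V →ₗ[F] F}
    (hψH : ∀ (k : Fˣ) x, ψ (ρ (Suzuki.H h k) x) = σ (lam m k⁻¹ : F) * ψ x) {c : F} (hc : c ≠ 0) {ω : F →+* F}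
    (h1 : ∀ x, τ x = ω (x * x)) (h2 : ∀ x, τ x = σ (θ m x))
    (hψT : ∀ a b x, ψ (ρ (T h a b) x) = ψ x + c * ω a * p x 3) : False := by
  set z := ρ (W h) v with hz
  have hz3 : p z 3 = 1 := by rw [hz, E.phom, hv, nat_W h]; simp
  have hwk : ∀ k, ρ (Suzuki.H h k) z = τ (lam m k⁻¹ : F) • z := fun k => by
    rw [hz, ← rho_mul, show Suzuki.H h k * W h = W h * Suzuki.H h k⁻¹ by
      rw [← W_conj_H h k, ← mul_assoc, ← mul_assoc, W_mul_self, one_mul], rho_mul, hχ, map_smul]
  obtain ⟨a, ha0, ha1, -⟩ := exists_ne h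
  have hzv : ψ z = 0 := by
    obtain ⟨k, hk⟩ := (lam_bijective h).2 (Units.mk0 a ha0)
    have e := hψH k⁻¹ z
    rw [hwk, map_smul, smul_eq_mul, inv_inv, hk, Units.val_mk0, h2] at e
    have : σ (θ m a) - σ a ≠ 0 := fun e' => theta_ne h a ha0 ha1 (σ.injective (sub_eq_zero.1 e'))
    exact (mul_eq_zero.1 (show (σ (θ m a) - σ a) * ψ z = 0 by linear_combination e)).resolve_left this
  have hψv : ψ v = 0 := by
    rw [fixed_eq h hρ hfix, map_add, map_add, map_add, hψT, hψT, hψT, ← hz, hzv, hz3]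
    simp [h.add_self]
  -- moving along the inversion
  have step : ∀ u : F × F, u ≠ 0 → ρ (W h) (ρ (T h u.1 u.2) z) =
      τ (fz m u.1 u.2) • ρ (T h (u.2 / fz m u.1 u.2) (u.1 / fz m u.1 u.2)) z := fun u hu => by
    obtain ⟨k, g, hk, e⟩ := exists_bruhat h hu
    rw [hz, ← rho_mul, ← rho_mul, e, rho_mul, hfix, rho_mul, rho_mul, ← hz, hwk, hk, map_smul]
  have hF : ∀ a b, ψ (ρ (W h) (ρ (T h a b) z)) = c * ω (fz m a b * b) := fun a b => by
    by_cases hu : (a, b) = (0 : F × F)
    · obtain ⟨rfl, rfl⟩ := Prod.mk_eq_zero.1 hu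
      rw [T_zero, map_one, hz, Module.End.one_apply, ← rho_mul, W_mul_self, map_one]
      simpa using hψv
    · have hfz : fz m a b ≠ 0 := fun e => hu (Prod.ext (h.fz_eq_zero e).1 (h.fz_eq_zero e).2)
      rw [step (a, b) hu, map_smul, smul_eq_mul, hψT, hzv, hz3, h1]
      simp only [map_mul, map_div₀]
      have : ω (fz m a b) ≠ 0 := (map_ne_zero ω).2 hfz
      field_simp
      ring
  -- an orbit of five vectors
  have ha1' : a + 1 ≠ 0 := fun e => ha1 ((h.eq_iff_add_eq_zero _ _).2 e)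
  set b := a with hb
  set q := θ m b with hq
  have hq0 : q ≠ 0 := θ_ne_zero m ha0
  have hs : θ m (b + 1) = q + 1 := by rw [h.θ_add, θ_one]
  have hq1 : q + 1 ≠ 0 := hs ▸ θ_ne_zero m ha1'
  have hA : fz m (b / q) 1 = (b + q + 1) / q := by
    rw [fz_eq, θ_div, hq, h.θ_θ, θ_one]
    have hqb : θ m b ≠ 0 := hq ▸ hq0
    field_simp
    ring
  have hA' : fz m ((b + 1) / (q + 1)) 1 = (b + q + 1) / (q + 1) := by
    rw [fz_eq, θ_div, ← hs, h.θ_θ, θ_one, hs]
    field_simp
    linear_combination h.two_eq_zero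
  have hB : b + q + 1 ≠ 0 := fun e => h.add_θ_ne_one b (by
    rw [← hq]; linear_combination e - h.two_eq_zero)
  have h0b : fz m 0 b = q := by simp [fz_eq, hq]
  have h0b' : fz m 0 (b + 1) = q + 1 := by simp [fz_eq, hs]
  set x0 := ρ (T h 0 b) z with hx0
  set A := (b + q + 1) / q with hAdef
  set A' := (b + q + 1) / (q + 1) with hA'def
  have hA0 : A ≠ 0 := div_ne_zero hB hq0
  have hA'0 : A' ≠ 0 := div_ne_zero hB hq1
  have hx1 : ρ (y h) x0 = τ q • ρ (T h (b / q) 1) z := by
    rw [y, rho_mul, hx0, step (0, b) (fun e => ha0 (Prod.mk_eq_zero.1 e).2), map_smul, h0b, ← rho_mul, T_mul]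
    simp
  have hx2 : ρ (y h ^ 2) x0 = (τ q * τ A) • ρ (T h (1 / A) (b / q / A + 1)) z := by
    rw [pow_two, rho_mul, hx1, map_smul, y, rho_mul, step (b / q, 1) (fun e => one_ne_zero (Prod.mk_eq_zero.1 e).2),
      hA, map_smul, ← rho_mul, T_mul, smul_smul]
    simp [add_comm]
  have hx4 : ρ (y h ^ 4) x0 = τ (q + 1) • ρ (T h ((b + 1) / (q + 1)) 0) z := by
    rw [y_four, y_inv, rho_mul, hx0, ← rho_mul (ρ := ρ) (T h (0 : F) 1), T_mul]
    simp only [θ_zero, zero_mul, add_zero]
    rw [add_comm (1 : F) b, step (0, b + 1) (fun e => ha1' (Prod.mk_eq_zero.1 e).2), h0b']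
    simp
  have hx3 : ρ (y h ^ 3) x0 = (τ (q + 1) * τ A') • ρ (T h (1 / A') ((b + 1) / (q + 1) / A')) z := by
    rw [show y h ^ 3 = y h ^ 4 * y h ^ 4 by
      rw [← pow_add, show 4 + 4 = 5 + 3 from rfl, pow_add, y_pow_five, one_mul], rho_mul, hx4, map_smul,
      y_four, y_inv, rho_mul, ← rho_mul (ρ := ρ) (T h (0 : F) 1), T_mul]
    simp only [θ_zero, zero_mul, add_zero, zero_add]
    rw [step ((b + 1) / (q + 1), 1) (fun e => one_ne_zero (Prod.mk_eq_zero.1 e).2), hA', smul_smul]
  have hshift : ∀ x w β : F, fz m x (w + β) = fz m x w + θ m β + x * β := fun x w β => by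
    rw [fz_eq, fz_eq, h.θ_add]; ring
  have hsum : ∀ β, (q + θ m β) * (b + β) + q * q * ((A + θ m β + b / q * β) * (1 + β)) +
      q * q * (A * A) * ((1 + θ m β + β / A) * (b / q / A + 1 + β)) +
      (q + 1) * (q + 1) * ((A' + (b + 1) / (q + 1) + 1 + θ m β + (b + 1) / (q + 1) * β) * β) +
      (q + 1) * (q + 1) * (A' * A') * ((1 / A' + θ m β + β / A') * ((b + 1) / (q + 1) / A' + β)) = 0 := fun β => by
    have hfA : fz m (1 / A) (b / q / A + 1) = 1 := by
      rw [fz_succ h, ← hA, h.fz_inversion (hA ▸ hA0), hA]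
      linear_combination (1 / A) * h.two_eq_zero
    have hfA' : fz m (1 / A') ((b + 1) / (q + 1) / A') = 1 / A' := by
      rw [← hA', h.fz_inversion (hA' ▸ hA'0)]
    have hf4 : fz m ((b + 1) / (q + 1)) 0 = A' + (b + 1) / (q + 1) + 1 := by
      have := fz_succ h ((b + 1) / (q + 1)) 0
      rw [zero_add, hA'] at this
      linear_combination -this - ((b + 1) / (q + 1) + 1) * h.two_eq_zero
    have e := congrArg (fun x => ψ (ρ (W h) (ρ (T h 0 β) x))) (hρ.sum h x0)
    rw [hx1, hx2, hx3, hx4] at e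
    simp only [map_add, map_smul, map_zero, smul_eq_mul, ← rho_mul (ρ := ρ) (T h (0 : F) β), T_mul, hx0,
      θ_zero, zero_mul, add_zero, zero_add] at e
    have hs1 : ∀ x w, fz m x (w + β) = fz m x w + θ m β + x * β := fun x w => hshift x w β
    have hs0 : fz m ((b + 1) / (q + 1)) β = fz m ((b + 1) / (q + 1)) 0 + θ m β + (b + 1) / (q + 1) * β := by
      rw [← hs1, zero_add]
    simp only [rho_mul ρ (T h _ _), hF, add_comm β, hs1, hs0, h0b, hA, hfA, hfA', hf4, h1, ← map_mul ω] at e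
    have e' : c * ω ((q + θ m β + 0 * β) * (b + β) + q * q * ((A + θ m β + b / q * β) * (1 + β)) +
      q * q * (A * A) * ((1 + θ m β + 1 / A * β) * (b / q / A + 1 + β)) +
      (q + 1) * (q + 1) * ((A' + (b + 1) / (q + 1) + 1 + θ m β + (b + 1) / (q + 1) * β) * β) +
      (q + 1) * (q + 1) * (A' * A') * ((1 / A' + θ m β + 1 / A' * β) * ((b + 1) / (q + 1) / A' + β))) = 0 := by
      rw [show (q + 1) * (q + 1) = q * q + 1 * 1 by linear_combination q * h.two_eq_zero]
      simp only [map_add, map_mul, map_one, map_zero] at e ⊢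
      linear_combination e
    have e'' := (map_eq_zero ω).1 ((mul_eq_zero.1 e').resolve_left hc)
    linear_combination e''
  have key : (b + θ m b) * (b * b + q) = 0 := by
    have hP : ∀ β t : F, (q + t) * (b + β) + (b + q + 1 + q * t + b * β) * q * (1 + β) +
        ((b + q + 1) * (1 + t) + q * β) * (b + (b + q + 1) + (b + q + 1) * β) +
        ((b + q + 1) + (b + 1) + (q + 1) + (q + 1) * t + (b + 1) * β) * (q + 1) * β +
        ((q + 1) + (b + q + 1) * t + (q + 1) * β) * (b + 1 + (b + q + 1) * β) =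
      (q + t) * (b + β) + q * q * (((b + q + 1) / q + t + b / q * β) * (1 + β)) +
        q * q * ((b + q + 1) / q * ((b + q + 1) / q)) *
          ((1 + t + β / ((b + q + 1) / q)) * (b / q / ((b + q + 1) / q) + 1 + β)) +
        (q + 1) * (q + 1) *
          (((b + q + 1) / (q + 1) + (b + 1) / (q + 1) + 1 + t + (b + 1) / (q + 1) * β) * β) +
        (q + 1) * (q + 1) * ((b + q + 1) / (q + 1) * ((b + q + 1) / (q + 1))) *
          ((1 / ((b + q + 1) / (q + 1)) + t + β / ((b + q + 1) / (q + 1))) *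
            ((b + 1) / (q + 1) / ((b + q + 1) / (q + 1)) + β)) := fun β t => by
      field_simp
    have g1 := hsum b
    rw [hAdef, hA'def, ← hq] at g1
    have g0 := hsum 0
    rw [hAdef, hA'def, θ_zero] at g0
    have f1 := (hP b q).trans g1
    have f0 := (hP 0 0).trans g0
    rw [← hq]
    linear_combination -f1 - f0 + (2 + 5 * q + 4 * q ^ 2 + q ^ 3 + 7 * b + 18 * b * q + 8 * b * q ^ 2 + 2 * b * q ^ 3 +
      6 * b ^ 2 + 11 * b ^ 2 * q + 3 * b ^ 2 * q ^ 2 + 2 * b ^ 3 + 3 * b ^ 3 * q) * h.two_eq_zero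
  rcases mul_eq_zero.1 key with e | e
  · exact theta_ne h b ha0 ha1 ((h.eq_iff_add_eq_zero _ _).2 e).symm
  · have e' : θ m b = b ^ 2 := by rw [← hq]; linear_combination e - b * b * h.two_eq_zero
    have := h.θ_θ b
    rw [e', θ_pow, e'] at this
    exact (h.sq_eq_self this).elim (fun e => ha0 (by simpa using e)) fun e =>
      ha1 (by
        have : (b + 1) ^ 2 = 0 := by linear_combination e + (b + 1) * h.two_eq_zero
        have := pow_eq_zero_iff (two_ne_zero) |>.1 this
        exact (h.eq_iff_add_eq_zero _ _).2 this)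

/-- Extensions of natural modules split. -/
theorem Ext.split [FiniteDimensional F V] (E : Ext ρ σ τ f p) (hρ : Rel5 h ρ) :
    ∃ s : (Fin 4 → F) →ₗ[F] V, IsHom (nat τ) ρ s ∧ ∀ x, p (s x) = x := by
  obtain ⟨v, hv, hχ, hvcase⟩ := E.normal h
  obtain ⟨p', E', hj⟩ := E.dualExt h
  obtain ⟨ψ, hψ, hξ, hψcase⟩ := E'.normal h
  have hψH : ∀ (k : Fˣ) x, ψ (ρ (Suzuki.H h k) x) = σ (lam m k⁻¹ : F) * ψ x := fun k x => by
    have := LinearMap.congr_fun (hξ k⁻¹) x
    simp only [dual_apply, LinearMap.smul_apply, smul_eq_mul] at this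
    rwa [← H_inv, inv_inv] at this
  have hψf : ∀ x, ψ (f x) = x 3 := fun x => by rw [← hj, hψ, jmap_apply]; simp
  have hTinv : ∀ a b, (T h a b)⁻¹ = T h a (b + θ m a * a) := T_inv h
  rcases hvcase with hfix | ⟨c, ω, hc, hω1, hω2, hT⟩
  swap
  · exfalso
    rcases hψcase with hψfix | ⟨c', ω', hc', hω1', hω2', -⟩
    swap
    · obtain ⟨a, ha0, ha1, -⟩ := exists_ne h
      have e : σ a = σ (θ m (θ m a)) := by rw [hω2 a, hω2' (θ m a)]
      rw [h.θ_θ] at e
      exact (h.sq_eq_self (σ.injective e).symm).elim ha0 ha1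
    refine E'.no_hom h hρ.dual hψ hξ hψfix (ψ := LinearMap.applyₗ v) (fun k φ => ?_) hc hω1 hω2 fun a b φ => ?_
    · show φ (ρ (Suzuki.H h k)⁻¹ v) = _
      rw [H_inv, hχ, map_smul, smul_eq_mul]; rfl
    · show φ (ρ (T h a b)⁻¹ v) = φ v + c * ω a * p' φ 3
      rw [hTinv, hT, map_add, map_smul, smul_eq_mul, ← hj, jmap_apply]
      simp
  rcases hψcase with hψfix | ⟨c', ω', hc', hω1', hω2', hT'⟩
  swap
  · exfalso
    refine E.no_hom h hρ hv hχ hfix hψH hc' hω1' hω2' fun a b x => ?_
    have := LinearMap.congr_fun (hT' a (b + θ m a * a)) x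
    rw [dual_apply, ← hTinv, inv_inv] at this
    rw [this]
    simp [jmap_apply]
  -- both fixed
  have hψT : ∀ a b x, ψ (ρ (T h a b) x) = ψ x := fun a b x => by
    have e := congrArg (fun φ : Module.Dual F V => φ (ρ (T h a b) x)) (hψfix a b)
    simp only [dual_apply, rho_inv_apply] at e
    exact e.symm
  set z := ρ (W h) v with hz
  set g0 := ψ z with hg0
  have hwk : ∀ k, ρ (Suzuki.H h k) z = τ (lam m k⁻¹ : F) • z := fun k => by
    rw [hz, ← rho_mul, show Suzuki.H h k * W h = W h * Suzuki.H h k⁻¹ by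
      rw [← W_conj_H h k, ← mul_assoc, ← mul_assoc, W_mul_self, one_mul], rho_mul, hχ, map_smul]
  have hz3 : p z 3 = 1 := by rw [hz, E.phom, hv, nat_W h]; simp
  have hστ : g0 ≠ 0 → σ = τ := fun hne => RingHom.ext fun x => by
    by_cases hx : x = 0
    · rw [hx, map_zero, map_zero]
    obtain ⟨k, hk⟩ := (lam_bijective h).2 (Units.mk0 x hx)
    have e := hψH k⁻¹ z
    rw [hwk, map_smul, smul_eq_mul, inv_inv, hk, Units.val_mk0] at e
    exact (mul_right_cancel₀ hne e).symm
  let ψ' : V →ₗ[F] F := ψ - g0 • (LinearMap.proj 3).comp p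
  have hψ' : ∀ x, ψ' x = ψ x - g0 * p x 3 := fun x => rfl
  have hψ'T : ∀ a b x, ψ' (ρ (T h a b) x) = ψ' x := fun a b x => by
    rw [hψ', hψ', hψT, E.phom, nat_T h]; simp
  have hψ'H : ∀ (k : Fˣ) x, ψ' (ρ (Suzuki.H h k) x) = σ (lam m k⁻¹ : F) * ψ' x := fun k x => by
    rw [hψ', hψ', hψH, E.phom, nat_H h]
    by_cases hg : g0 = 0
    · simp [hg]
    · simp [hστ hg, map_inv, Units.val_inv_eq_inv_val, map_inv₀]; ring
  have hψ'z : ψ' z = 0 := by rw [hψ', hz3, mul_one, sub_self]
  have hψ'v : ψ' v = 0 := fixed_kill h hρ hfix (ψ := ψ') fun a b => LinearMap.ext fun x => by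
    rw [dual_apply, hTinv, hψ'T]
  have hall : ∀ g, ψ' (ρ g v) = 0 := fun g => by
    by_cases hg : g ∈ borel F m
    · obtain ⟨a, b, k, rfl⟩ := borel_form h hg
      rw [rho_mul, hψ'T, hψ'H, hψ'v, mul_zero]
    · obtain ⟨x, w, a, b, k, rfl⟩ := bruhat h hg
      rw [rho_mul, rho_mul, rho_mul, hχ]
      simp only [map_smul]
      rw [hfix, hψ'T, ← hz, hψ'z, smul_zero]
  set N := Submodule.span F (Set.range fun g => ρ g v) with hN
  have hNinv : ∀ g, ∀ x ∈ N, ρ g x ∈ N := fun g x hx => by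
    induction hx using Submodule.span_induction with
    | mem x hx => obtain ⟨g', rfl⟩ := hx; exact Submodule.subset_span ⟨g * g', rho_mul _ _ _ _⟩
    | zero => rw [map_zero]; exact zero_mem _
    | add x w _ _ hx hw => rw [map_add]; exact add_mem hx hw
    | smul a x _ hx => rw [map_smul]; exact Submodule.smul_mem _ _ hx
  have hNle : N ≤ LinearMap.ker ψ' := by
    rw [hN, Submodule.span_le]; rintro _ ⟨g, rfl⟩; exact hall g
  have hmeet : N.comap f = ⊥ := by
    by_contra hne
    have ht := nat_irreducible h σ (fun g x hx => by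
      show f (nat σ g x) ∈ N; rw [E.fhom]; exact hNinv g _ hx) hne
    have : (![0, 0, 0, 1] : Fin 4 → F) ∈ N.comap f := ht ▸ Submodule.mem_top
    have e : ψ' (f ![0, 0, 0, 1]) = 0 := hNle this
    rw [hψ', hψf, E.pf] at e
    simp at e
  let q : N →ₗ[F] (Fin 4 → F) := p.comp N.subtype
  have hqinj : Function.Injective q := by
    rw [← LinearMap.ker_eq_bot, Submodule.eq_bot_iff]
    intro x hx
    have : (x : V) ∈ LinearMap.ker p := hx
    rw [E.ker_eq] at this
    obtain ⟨w, hw⟩ := this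
    have : w ∈ N.comap f := by show f w ∈ N; rw [hw]; exact x.2
    rw [hmeet, Submodule.mem_bot] at this
    exact Subtype.ext (by rw [← hw, this, map_zero]; rfl)
  have hqsurj : Function.Surjective q := by
    rw [← LinearMap.range_eq_top]
    refine nat_irreducible h τ (fun g x hx => ?_) fun e => ?_
    · obtain ⟨⟨w, hw⟩, rfl⟩ := hx
      exact ⟨⟨ρ g w, hNinv g w hw⟩, E.phom g w⟩
    · have := (Submodule.eq_bot_iff _).1 e _ ⟨⟨v, Submodule.subset_span ⟨1, by simp⟩⟩, hv⟩
      simpa using congrFun this 0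
  let e := LinearEquiv.ofBijective q ⟨hqinj, hqsurj⟩
  have he : ∀ x, p ((e.symm x : N) : V) = x := fun x => e.apply_symm_apply x
  refine ⟨N.subtype.comp e.symm.toLinearMap, fun g x => ?_, he⟩
  show ((e.symm (nat τ g x) : N) : V) = ρ g ((e.symm x : N) : V)
  have : e.symm (nat τ g x) = ⟨_, hNinv g _ (e.symm x).2⟩ := hqinj (by
    show p ((e.symm (nat τ g x) : N) : V) = p (ρ g ((e.symm x : N) : V))
    rw [he, E.phom, he])
  exact congrArg Subtype.val this

end Cfsg.Agent.SzFpf
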