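import Cfsg.Agent.Lib.SzFpf.Ext

/-!
# Modules of the Suzuki groups are sums of natural modules; there are no invariant trilinear forms
-/

set_option autoImplicit false
set_option linter.unusedSectionVars false
set_option linter.style.haveILetI false

namespace Cfsg.Agent.SzFpf

open Cfsg.Agent.Suzuki

universe u v v₁ v₂ v₃

variable {F : Type u} [Field F] [Fintype F] {m : ℕ} (h : SzField F m)

local notation "Sz" => Cfsg.Sz F m

/-! ### Complete reducibility -/

section semisimple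

variable {V : Type v} [AddCommGroup V] [Module F V]

/-- An invariant subspace as a module. -/
def subRep (ρ : Sz →* Module.End F V) (N : Submodule F V) (hN : ∀ g, ∀ x ∈ N, ρ g x ∈ N) :
    Sz →* Module.End F N where
  toFun g := (ρ g).restrict (hN g)
  map_one' := LinearMap.ext fun x => Subtype.ext (by simp)
  map_mul' g k := LinearMap.ext fun x => Subtype.ext (rho_mul ρ g k x)

theorem subRep_coe (ρ : Sz →* Module.End F V) (N : Submodule F V) (hN : ∀ g, ∀ x ∈ N, ρ g x ∈ N)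
    (g : Sz) (x : N) : (subRep ρ N hN g x : V) = ρ g x := rfl

/-- The quotient by an invariant subspace. -/
def quotRep (ρ : Sz →* Module.End F V) (N : Submodule F V) (hN : ∀ g, ∀ x ∈ N, ρ g x ∈ N) :
    Sz →* Module.End F (V ⧸ N) where
  toFun g := N.mapQ N (ρ g) (hN g)
  map_one' := Submodule.linearMap_qext _ (LinearMap.ext fun x =>
    congrArg N.mkQ (by rw [map_one]; rfl : ρ 1 x = x))
  map_mul' g k := Submodule.linearMap_qext _ (LinearMap.ext fun x => congrArg N.mkQ (rho_mul ρ g k x))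

theorem quotRep_mk (ρ : Sz →* Module.End F V) (N : Submodule F V) (hN : ∀ g, ∀ x ∈ N, ρ g x ∈ N)
    (g : Sz) (x : V) : quotRep ρ N hN g (N.mkQ x) = N.mkQ (ρ g x) := rfl

/-- The sum of the images of the natural modules. -/
def natSpan (ρ : Sz →* Module.End F V) : Submodule F V :=
  Submodule.span F {v | ∃ (σ : F →+* F) (f : (Fin 4 → F) →ₗ[F] V) (x : Fin 4 → F),
    IsHom (nat σ) ρ f ∧ f x = v}

include h

theorem natSpan_eq_top [FiniteDimensional F V] {ρ : Sz →* Module.End F V} (hρ : Rel5 h ρ) :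
    natSpan ρ = ⊤ := by
  classical
  suffices H : ∀ n, ∀ (V' : Type v) [AddCommGroup V'] [Module F V'] [FiniteDimensional F V']
      (ρ' : Sz →* Module.End F V'), Rel5 h ρ' → Module.finrank F V' ≤ n → natSpan ρ' = ⊤ from
    H _ V ρ hρ le_rfl
  intro n
  induction n with
  | zero =>
    intro V' _ _ _ ρ' _ hn
    haveI : Subsingleton V' := Module.finrank_zero_iff.1 (Nat.le_zero.1 hn)
    exact Submodule.eq_top_iff'.2 fun x => by rw [Subsingleton.elim x 0]; exact zero_mem _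
  | succ n ih =>
    intro V' _ _ _ ρ' hρ' hn
    rcases subsingleton_or_nontrivial V' with hs | hnt
    · exact Submodule.eq_top_iff'.2 fun x => by rw [Subsingleton.elim x 0]; exact zero_mem _
    obtain ⟨N, ⟨hN, hN0⟩, hmin⟩ := (wellFounded_lt (α := Submodule F V')).has_min
      {N | (∀ g, ∀ x ∈ N, ρ' g x ∈ N) ∧ N ≠ ⊥} ⟨⊤, fun g x _ => trivial, top_ne_bot⟩
    haveI : Nontrivial N := Submodule.nontrivial_iff_ne_bot.2 hN0
    have hsub : IsHom (subRep ρ' N hN) ρ' N.subtype := fun g x => rfl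
    have hrN : Rel5 h (subRep ρ' N hN) := hρ'.of_injective h hsub N.injective_subtype
    obtain ⟨σ, e, he⟩ := exists_nat h hrN fun K hK => by
      by_cases hK0 : K = ⊥
      · exact Or.inl hK0
      refine Or.inr (Submodule.eq_top_iff'.2 fun x => ?_)
      have hne : K.map N.subtype ≠ ⊥ := fun e =>
        hK0 (Submodule.map_injective_of_injective N.injective_subtype (e.trans (Submodule.map_bot _).symm))
      have hinv : ∀ g, ∀ z ∈ K.map N.subtype, ρ' g z ∈ K.map N.subtype := by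
        rintro g _ ⟨z, hz, rfl⟩
        exact ⟨_, hK g z hz, rfl⟩
      have heq : K.map N.subtype = N :=
        (Submodule.map_subtype_le N K).eq_of_not_lt (hmin _ ⟨hinv, hne⟩)
      obtain ⟨z, hz, hzx⟩ := (heq.symm.le x.2 : (x : V') ∈ K.map N.subtype)
      rwa [← Subtype.ext hzx]
    -- the embedding of the natural module
    set f : (Fin 4 → F) →ₗ[F] V' := N.subtype.comp e.symm.toLinearMap with hf
    have hfhom : IsHom (nat σ) ρ' f := fun g x => by
      show ((e.symm (nat σ g x) : N) : V') = ρ' g ((e.symm x : N) : V')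
      rw [← subRep_coe ρ' N hN]
      congr 1
      refine e.injective ?_
      rw [e.apply_symm_apply]
      exact ((he g (e.symm x)).trans (by rw [LinearEquiv.coe_coe, e.apply_symm_apply])).symm
    have hfinj : Function.Injective f := N.injective_subtype.comp e.symm.injective
    have hfrange : LinearMap.range f = N := by
      rw [hf, LinearMap.range_comp, LinearEquiv.range, Submodule.map_top, Submodule.range_subtype]
    have hNle : N ≤ natSpan ρ' := fun x hx => by
      rw [← hfrange] at hx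
      obtain ⟨z, rfl⟩ := hx
      exact Submodule.subset_span ⟨σ, f, z, hfhom, rfl⟩
    have hmk : IsHom ρ' (quotRep ρ' N hN) N.mkQ := fun g x => rfl
    have hrQ : Rel5 h (quotRep ρ' N hN) := hρ'.of_surjective h hmk N.mkQ_surjective
    have hq := ih (V' ⧸ N) _ hrQ (by
      have := N.finrank_quotient_add_finrank
      have : 0 < Module.finrank F N := Module.finrank_pos
      omega)
    have hmap : (natSpan ρ').map N.mkQ = ⊤ := by
      rw [← top_le_iff, ← hq, natSpan, Submodule.span_le]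
      rintro _ ⟨τ, g, x, hg, rfl⟩
      by_cases hg0 : g = 0
      · rw [hg0, LinearMap.zero_apply]; exact zero_mem _
      have hginj : Function.Injective g := by
        rw [← LinearMap.ker_eq_bot]
        by_contra hne
        have ht := nat_irreducible h τ (fun k z hz => by
          rw [LinearMap.mem_ker] at hz ⊢; rw [hg, hz, map_zero]) hne
        exact hg0 (LinearMap.ker_eq_top.1 ht)
      -- the preimage is an extension
      set M : Submodule F V' := (LinearMap.range g).comap N.mkQ with hM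
      have hMinv : ∀ k, ∀ z ∈ M, ρ' k z ∈ M := fun k z hz => by
        obtain ⟨w, hw⟩ := hz
        exact ⟨nat τ k w, by rw [hg, hw, hmk]⟩
      let p : M →ₗ[F] (Fin 4 → F) := (LinearEquiv.ofInjective g hginj).symm.toLinearMap.comp
        ((N.mkQ.comp M.subtype).codRestrict (LinearMap.range g) fun z => z.2)
      have hp : ∀ z : M, g (p z) = N.mkQ z := fun z =>
        congrArg Subtype.val ((LinearEquiv.ofInjective g hginj).apply_symm_apply ⟨N.mkQ z, z.2⟩)
      have hfM : ∀ z, f z ∈ M := fun z => by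
        have : N.mkQ (f z) = 0 := (Submodule.Quotient.mk_eq_zero N).2 (hfrange ▸ LinearMap.mem_range_self f z)
        show N.mkQ (f z) ∈ LinearMap.range g
        rw [this]; exact zero_mem _
      have E : Ext (subRep ρ' M hMinv) σ τ (f.codRestrict M hfM) p :=
        { fhom := fun k z => Subtype.ext (hfhom k z)
          phom := fun k z => hginj (by rw [hp, hg, hp]; exact hmk k z)
          finj := fun a b e' => hfinj (show f a = f b from congrArg (fun z : M => (z : V')) e')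
          psurj := fun z => by
            obtain ⟨w, hw⟩ := N.mkQ_surjective (g z)
            exact ⟨⟨w, z, hw.symm⟩, hginj ((hp _).trans hw)⟩
          ker_eq := by
            ext z
            rw [LinearMap.mem_ker, LinearMap.range_codRestrict, Submodule.mem_comap, hfrange,
              ← hginj.eq_iff, hp, map_zero]
            exact Submodule.Quotient.mk_eq_zero N }
      obtain ⟨s, hs, hps⟩ := E.split h (hρ'.of_injective h (f := M.subtype) (fun k z => rfl) M.injective_subtype)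
      refine ⟨M.subtype (s x), Submodule.subset_span ⟨τ, M.subtype.comp s, x, fun k z => ?_, rfl⟩, ?_⟩
      · show (s (nat τ k z) : V') = ρ' k (s z : V')
        rw [hs]; rfl
      · exact (hp (s x)).symm.trans (by rw [hps])
    refine Submodule.eq_top_iff'.2 fun x => ?_
    obtain ⟨z, hz, hzx⟩ : N.mkQ x ∈ (natSpan ρ').map N.mkQ := hmap ▸ Submodule.mem_top
    have : x - z ∈ N := (Submodule.Quotient.eq N).1 hzx.symm
    rw [← sub_add_cancel x z]
    exact add_mem (hNle this) hz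

/-- A linear map vanishing on the images of all natural modules is zero. -/
theorem eq_zero_of_nat [FiniteDimensional F V] {ρ : Sz →* Module.End F V} (hρ : Rel5 h ρ)
    {P : Type*} [AddCommGroup P] [Module F P] {φ : V →ₗ[F] P}
    (hφ : ∀ (σ : F →+* F) (f : (Fin 4 → F) →ₗ[F] V), IsHom (nat σ) ρ f → ∀ x, φ (f x) = 0) : φ = 0 := by
  refine LinearMap.ext fun v => ?_
  have hle : natSpan ρ ≤ LinearMap.ker φ := by
    rw [natSpan, Submodule.span_le]
    rintro _ ⟨σ, f, x, hf, rfl⟩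
    exact hφ σ f hf x
  exact hle (natSpan_eq_top h hρ ▸ Submodule.mem_top)

end semisimple

/-! ### Trilinear forms -/

/-- The standard basis of the natural module. -/
def E (i : Fin 4) : Fin 4 → F := Pi.single i 1

theorem dec (x : Fin 4 → F) :
    x = x 0 • E (F := F) 0 + x 1 • E 1 + x 2 • E 2 + x 3 • E 3 := by
  funext i; fin_cases i <;> simp [E]

theorem tT0 (h : SzField F m) (σ : F →+* F) (a b : F) : nat σ (T h a b) (E 0) = E 0 := by
  rw [nat_T h]; funext i; fin_cases i <;> simp [E]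

theorem tT1 (h : SzField F m) (σ : F →+* F) (a b : F) : nat σ (T h a b) (E 1) = σ a • E 0 + E 1 := by
  rw [nat_T h]; funext i; fin_cases i <;> simp [E]

theorem tT2 (h : SzField F m) (σ : F →+* F) (a b : F) :
    nat σ (T h a b) (E 2) = σ (b + θ m a * a) • E 0 + σ (θ m a) • E 1 + E 2 := by
  rw [nat_T h]; funext i; fin_cases i <;> simp [E]

theorem tT3 (h : SzField F m) (σ : F →+* F) (a b : F) :
    nat σ (T h a b) (E 3) = σ (fz m a b) • E 0 + σ b • E 1 + σ a • E 2 + E 3 := by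
  rw [nat_T h]; funext i; fin_cases i <;> simp [E]

theorem tW (h : SzField F m) (σ : F →+* F) :
    nat σ (W h) (E 0) = E 3 ∧ nat σ (W h) (E 1) = E 2 ∧ nat σ (W h) (E 2) = E 1 ∧ nat σ (W h) (E 3) = E 0 := by
  refine ⟨?_, ?_, ?_, ?_⟩ <;> rw [nat_W h] <;> funext i <;> fin_cases i <;> simp [E]

theorem tH (h : SzField F m) (σ : F →+* F) (k : Fˣ) :
    nat σ (Suzuki.H h k) (E 0) = σ (lam m k) • E 0 ∧
      nat σ (Suzuki.H h k) (E 3) = (σ (lam m k))⁻¹ • E 3 := by
  refine ⟨?_, ?_⟩ <;> rw [nat_H h] <;> funext i <;> fin_cases i <;> simp [E]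

/-- The sum of four translates of the bottom vector is the top vector. -/
theorem four_sum (h : SzField F m) (σ : F →+* F) :
    E 3 + nat σ (T h 0 1) (E 3) + nat σ (T h 1 0) (E 3) + nat σ (T h 1 1) (E 3) = E 0 := by
  rw [tT3, tT3, tT3]; funext i; fin_cases i <;> simp [E, fz_eq, h.add_self]

section tri

variable {V₁ : Type v₁} [AddCommGroup V₁] [Module F V₁] {V₂ : Type v₂} [AddCommGroup V₂] [Module F V₂]
  {V₃ : Type v₃} [AddCommGroup V₃] [Module F V₃]

/-- An invariant trilinear form. -/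
def IsTri (ρ₁ : Sz →* Module.End F V₁) (ρ₂ : Sz →* Module.End F V₂) (ρ₃ : Sz →* Module.End F V₃)
    (T : V₁ →ₗ[F] V₂ →ₗ[F] V₃ →ₗ[F] F) : Prop :=
  ∀ g x y z, T (ρ₁ g x) (ρ₂ g y) (ρ₃ g z) = T x y z

/-- Exchange of the last two arguments. -/
def flip23 (T : V₁ →ₗ[F] V₂ →ₗ[F] V₃ →ₗ[F] F) : V₁ →ₗ[F] V₃ →ₗ[F] V₂ →ₗ[F] F where
  toFun x := (T x).flip
  map_add' x y := by ext; simp
  map_smul' c x := by ext; simp

theorem flip23_apply (T : V₁ →ₗ[F] V₂ →ₗ[F] V₃ →ₗ[F] F) (x : V₁) (y : V₂) (z : V₃) :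
    flip23 T x z y = T x y z := rfl

end tri

variable {σ₁ σ₂ σ₃ : F →+* F} {T₀ : (Fin 4 → F) →ₗ[F] (Fin 4 → F) →ₗ[F] (Fin 4 → F) →ₗ[F] F}

theorem IsTri.flip (hT : IsTri (m := m) (nat σ₁) (nat σ₂) (nat σ₃) T₀) :
    IsTri (m := m) (nat σ₂) (nat σ₁) (nat σ₃) T₀.flip := fun g x y z => hT g y x z

theorem IsTri.flip23 (hT : IsTri (m := m) (nat σ₁) (nat σ₂) (nat σ₃) T₀) :
    IsTri (m := m) (nat σ₁) (nat σ₃) (nat σ₂) (flip23 T₀) := fun g x y z => hT g x z y

include h

theorem IsTri.corner_eq (hT : IsTri (m := m) (nat σ₁) (nat σ₂) (nat σ₃) T₀) :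
    T₀ (E 0) (E 0) (E 3) = T₀ (E 3) (E 0) (E 0) := by
  have hg : ∀ a b, T₀ (nat σ₁ (T h a b) (E 3)) (E 0) (E 3) =
      T₀ (E 3) (E 0) (nat σ₃ (T h a (b + θ m a * a)) (E 3)) := fun a b => by
    rw [← hT (T h a b)⁻¹, rho_inv_apply, T_inv, tT0]
  conv_lhs => arg 1; arg 1; rw [← four_sum h σ₁]
  conv_rhs => arg 2; rw [← four_sum h σ₃]
  simp only [map_add, LinearMap.add_apply, hg, θ_zero, θ_one, zero_mul, one_mul, add_zero, zero_add,
    h.add_self]
  ring

theorem IsTri.corner (hT : IsTri (m := m) (nat σ₁) (nat σ₂) (nat σ₃) T₀) (z : Fin 4 → F) :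
    T₀ (E 0) (E 0) z = 0 := by
  obtain ⟨a, ha0, ha1, -⟩ := exists_ne h
  have hinv : ∀ a b z, T₀ (E 0) (E 0) (nat σ₃ (T h a b) z) = T₀ (E 0) (E 0) z := fun a b z => by
    conv_rhs => rw [← hT (T h a b), tT0, tT0]
  have f0 : T₀ (E 0) (E 0) (E 0) = 0 := by
    simpa [tT1] using hinv 1 0 (E 1)
  have f1 : T₀ (E 0) (E 0) (E 1) = 0 := by
    simpa [tT2, f0] using hinv 1 1 (E 2)
  have f2 : T₀ (E 0) (E 0) (E 2) = 0 := by
    simpa [tT3, f0, f1] using hinv 1 0 (E 3)
  have f3 : T₀ (E 0) (E 0) (E 3) = 0 := by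
    by_contra hc
    have e1 : T₀ (E 3) (E 0) (E 0) ≠ 0 := hT.corner_eq h ▸ hc
    have hall : ∀ k : Fˣ, σ₂ (lam m k : F) = 1 := fun k => by
      have a1 : σ₁ (lam m k : F) * σ₂ (lam m k : F) * (σ₃ (lam m k : F))⁻¹ = 1 := by
        have e := hT (Suzuki.H h k) (E 0) (E 0) (E 3)
        rw [(tH h σ₁ k).1, (tH h σ₂ k).1, (tH h σ₃ k).2] at e
        simp only [map_smul, LinearMap.smul_apply, smul_eq_mul] at e
        exact mul_right_cancel₀ hc (by linear_combination e)
      have a2 : (σ₁ (lam m k : F))⁻¹ * σ₂ (lam m k : F) * σ₃ (lam m k : F) = 1 := by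
        have e := hT (Suzuki.H h k) (E 3) (E 0) (E 0)
        rw [(tH h σ₁ k).2, (tH h σ₂ k).1, (tH h σ₃ k).1] at e
        simp only [map_smul, LinearMap.smul_apply, smul_eq_mul] at e
        exact mul_right_cancel₀ e1 (by linear_combination e)
      have n1 : σ₁ (lam m k : F) ≠ 0 := (map_ne_zero σ₁).2 (lam m k).ne_zero
      have n2 : σ₂ (lam m k : F) ≠ 0 := (map_ne_zero σ₂).2 (lam m k).ne_zero
      have n3 : σ₃ (lam m k : F) ≠ 0 := (map_ne_zero σ₃).2 (lam m k).ne_zero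
      field_simp at a1 a2
      have : σ₂ (lam m k : F) ^ 2 = σ₂ (lam m k : F) ^ 0 := by
        refine mul_left_cancel₀ (mul_ne_zero n1 n3) ?_
        linear_combination σ₂ (lam m k : F) * σ₃ (lam m k : F) * a1 + σ₃ (lam m k : F) * a2
      have h1 : (σ₂ (lam m k : F) + 1) ^ 2 = 0 := by
        linear_combination this + (σ₂ (lam m k : F) + 1) * h.two_eq_zero
      exact (h.eq_iff_add_eq_zero _ _).2 ((pow_eq_zero_iff two_ne_zero).1 h1)
    obtain ⟨k, hk⟩ := (lam_bijective h).2 (Units.mk0 a ha0)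
    have := hall k
    rw [hk, Units.val_mk0] at this
    exact ha1 (σ₂.injective (this.trans (map_one σ₂).symm))
  rw [dec z]
  simp [f0, f1, f2, f3]

/-- Most values of a slice through the top vector vanish. -/
theorem IsTri.slice (hT : IsTri (m := m) (nat σ₁) (nat σ₂) (nat σ₃) T₀) :
    T₀ (E 0) (E 1) (E 1) = 0 ∧ T₀ (E 0) (E 1) (E 2) = 0 ∧ T₀ (E 0) (E 2) (E 1) = 0 ∧
      T₀ (E 0) (E 2) (E 2) = 0 ∧ T₀ (E 0) (E 1) (E 3) = 0 ∧ T₀ (E 0) (E 3) (E 1) = 0 := by
  have hl : ∀ z, T₀ (E 0) (E 0) z = 0 := hT.corner h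
  have hr : ∀ y, T₀ (E 0) y (E 0) = 0 := fun y => hT.flip23.corner h y
  have hinv : ∀ a b y z, T₀ (E 0) (nat σ₂ (T h a b) y) (nat σ₃ (T h a b) z) = T₀ (E 0) y z := fun a b y z => by
    conv_rhs => rw [← hT (T h a b), tT0]
  have f11 : T₀ (E 0) (E 1) (E 1) = 0 := by
    simpa [tT1, tT2, hl, hr] using hinv 1 1 (E 2) (E 1)
  have f21 : T₀ (E 0) (E 2) (E 1) = 0 := by
    simpa [tT1, tT3, hl, hr, f11] using hinv 1 0 (E 3) (E 1)
  have f12 : T₀ (E 0) (E 1) (E 2) = 0 := by
    simpa [tT1, tT3, hl, hr, f11] using hinv 1 0 (E 1) (E 3)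
  have hb : ∀ b, σ₂ b * T₀ (E 0) (E 1) (E 3) + σ₃ b * T₀ (E 0) (E 3) (E 1) = 0 := fun b => by
    have e := hinv 0 b (E 3) (E 3)
    simp [tT3, hl, hr, f11, θ_zero] at e
    linear_combination e
  have ha : ∀ a, σ₂ (θ m a) * T₀ (E 0) (E 1) (E 3) + σ₃ a * T₀ (E 0) (E 2) (E 2) = 0 := fun a => by
    have e := hinv a 0 (E 2) (E 3)
    simp [tT2, tT3, hl, hr, f11, f12, f21] at e
    linear_combination e
  have e31 : T₀ (E 0) (E 3) (E 1) = T₀ (E 0) (E 1) (E 3) := by
    have := hb 1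
    rw [map_one, map_one, one_mul, one_mul] at this
    exact ((h.eq_iff_add_eq_zero _ _).2 this).symm
  have e22 : T₀ (E 0) (E 2) (E 2) = T₀ (E 0) (E 1) (E 3) := by
    have := ha 1
    rw [θ_one, map_one, map_one, one_mul, one_mul] at this
    exact ((h.eq_iff_add_eq_zero _ _).2 this).symm
  have h13 : T₀ (E 0) (E 1) (E 3) = 0 := by
    by_contra hne
    obtain ⟨a, ha0, ha1, -⟩ := exists_ne h
    have s1 : ∀ x, σ₂ x = σ₃ x := fun x => mul_right_cancel₀ hne (by
      have := hb x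
      rw [e31] at this
      linear_combination this - σ₃ x * T₀ (E 0) (E 1) (E 3) * h.two_eq_zero)
    have s2 : σ₂ (θ m a) = σ₃ a := mul_right_cancel₀ hne (by
      have := ha a
      rw [e22] at this
      linear_combination this - σ₃ a * T₀ (E 0) (E 1) (E 3) * h.two_eq_zero)
    exact theta_ne h a ha0 ha1 (σ₂.injective (by rw [s2, s1]))
  exact ⟨f11, f12, f21, e22.trans h13, h13, e31.trans h13⟩

theorem IsTri.nat_eq_zero (hT : IsTri (m := m) (nat σ₁) (nat σ₂) (nat σ₃) T₀) : T₀ = 0 := by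
  obtain ⟨f11, f12, f21, f22, f13, f31⟩ := hT.slice h
  have hl : ∀ z, T₀ (E 0) (E 0) z = 0 := hT.corner h
  have hr : ∀ y, T₀ (E 0) y (E 0) = 0 := fun y => hT.flip23.corner h y
  have f23 : T₀ (E 0) (E 2) (E 3) = 0 := by
    rw [← hT (W h), (tW h σ₁).1, (tW h σ₂).2.2.1, (tW h σ₃).2.2.2]
    exact (hT.flip.flip23.flip.slice h).2.2.2.2.1
  have f32 : T₀ (E 0) (E 3) (E 2) = 0 := by
    rw [← hT (W h), (tW h σ₁).1, (tW h σ₂).2.2.2, (tW h σ₃).2.2.1]
    exact (hT.flip.slice h).2.2.2.2.2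
  have f33 : T₀ (E 0) (E 3) (E 3) = 0 := by
    rw [← hT (W h), (tW h σ₁).1, (tW h σ₂).2.2.2, (tW h σ₃).2.2.2]
    exact hT.flip.flip23.corner h (E 3)
  have hE0 : E 0 ∈ LinearMap.ker T₀ := LinearMap.mem_ker.2 (LinearMap.ext fun y => LinearMap.ext fun z => by
    rw [dec y, dec z]
    simp [hl, hr, f11, f12, f21, f22, f13, f31, f23, f32, f33])
  have htop := nat_irreducible h σ₁ (N := LinearMap.ker T₀) (fun g x hx => by
    rw [LinearMap.mem_ker] at hx ⊢
    refine LinearMap.ext fun y => LinearMap.ext fun z => ?_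
    rw [← rho_apply_inv (nat σ₂) g y, ← rho_apply_inv (nat σ₃) g z, hT, hx]
    simp) fun e => by
      have := (Submodule.eq_bot_iff _).1 e _ hE0
      simpa [E] using congrFun this 0
  exact LinearMap.ker_eq_top.1 htop

variable {V₁ : Type v₁} [AddCommGroup V₁] [Module F V₁] [FiniteDimensional F V₁]
  {V₂ : Type v₂} [AddCommGroup V₂] [Module F V₂] [FiniteDimensional F V₂]
  {V₃ : Type v₃} [AddCommGroup V₃] [Module F V₃] [FiniteDimensional F V₃]
  {ρ₁ : Cfsg.Sz F m →* Module.End F V₁} {ρ₂ : Cfsg.Sz F m →* Module.End F V₂}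
  {ρ₃ : Cfsg.Sz F m →* Module.End F V₃}

/-- There are no invariant trilinear forms. -/
theorem IsTri.eq_zero (h₁ : Rel5 h ρ₁) (h₂ : Rel5 h ρ₂) (h₃ : Rel5 h ρ₃) {T : V₁ →ₗ[F] V₂ →ₗ[F] V₃ →ₗ[F] F}
    (hT : IsTri ρ₁ ρ₂ ρ₃ T) : T = 0 := by
  refine eq_zero_of_nat h h₁ fun σ₁ f₁ hf₁ x => eq_zero_of_nat h h₂ fun σ₂ f₂ hf₂ y =>
    eq_zero_of_nat h h₃ fun σ₃ f₃ hf₃ z => ?_
  let T' : (Fin 4 → F) →ₗ[F] (Fin 4 → F) →ₗ[F] (Fin 4 → F) →ₗ[F] F :=
    { toFun := fun a => (T (f₁ a)).compl₁₂ f₂ f₃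
      map_add' := fun a b => by ext; simp
      map_smul' := fun c a => by ext; simp }
  have hT' : IsTri (m := m) (nat σ₁) (nat σ₂) (nat σ₃) T' := fun g a b c => by
    show T (f₁ _) (f₂ _) (f₃ _) = T (f₁ a) (f₂ b) (f₃ c)
    rw [hf₁, hf₂, hf₃, hT]
  exact LinearMap.congr_fun (LinearMap.congr_fun (LinearMap.congr_fun (hT'.nat_eq_zero h) x) y) z

end Cfsg.Agent.SzFpf
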