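import Cfsg.Agent.Lib.SzFpf.Lift
import Mathlib.GroupTheory.Sylow

/-!
# A fixed point free two-group under a Suzuki group is elementary abelian
-/

set_option autoImplicit false
set_option linter.unusedSectionVars false
set_option linter.style.haveILetI false

namespace Cfsg.Agent.SzFpf

open Cfsg.Agent.Suzuki

universe u v

variable {F : Type u} [Field F] [Fintype F] {m : ℕ} (h : SzField F m)

local notation "Sz" => Cfsg.Sz F m

/-- An action by automorphisms of a commutative group, written additively. -/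
def addAct {A : Type v} [CommGroup A] (φ : Sz →* MulAut A) : Sz →* AddMonoid.End (Additive A) where
  toFun g := MonoidHom.toAdditive (φ g).toMonoidHom
  map_one' := AddMonoidHom.ext fun a => by
    show Additive.ofMul (φ 1 a.toMul) = a
    rw [map_one]; rfl
  map_mul' g k := AddMonoidHom.ext fun a => by
    show Additive.ofMul (φ (g * k) a.toMul) = Additive.ofMul (φ g (φ k a.toMul))
    rw [map_mul]; rfl

variable {G : Type v} [Group G]

/-- The action on a normal subgroup centralised by the kernel. -/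
noncomputable def conjAct (P : G →* Sz) (hP : Function.Surjective P) (N : Subgroup G) [N.Normal]
    (hN : ∀ x ∈ P.ker, ∀ a ∈ N, x * a = a * x) : Sz →* MulAut N :=
  P.liftOfSurjective hP ⟨MulAut.conjNormal, fun x hx => MonoidHom.mem_ker.2 (MulEquiv.ext fun a =>
    Subtype.ext (show x * a * x⁻¹ = a by rw [hN x hx a a.2, mul_inv_cancel_right]))⟩

theorem conjAct_apply (P : G →* Sz) (hP : Function.Surjective P) (N : Subgroup G) [N.Normal]
    (hN : ∀ x ∈ P.ker, ∀ a ∈ N, x * a = a * x) (g : G) (a : N) :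
    ((conjAct P hP N hN (P g) a : N) : G) = g * a * g⁻¹ := by
  rw [conjAct, MonoidHom.liftOfRightInverse_comp_apply]
  exact MulAut.conjNormal_apply g a

include h

theorem y_ne_one : y h ≠ 1 := fun e => exists_factor_not_borel h (by
  have : W h = (T h 0 1)⁻¹ := eq_inv_of_mul_eq_one_right e
  rw [this]
  exact inv_mem (T_mem_borel h 0 1))

theorem orderOf_y : orderOf (y h) = 5 := by
  haveI : Fact (Nat.Prime 5) := ⟨by norm_num⟩
  exact orderOf_eq_prime (y_pow_five h) (y_ne_one h)

/-- A lift of order five of an element of order five modulo a two-group. -/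
theorem exists_lift_five {H : Type*} [Group H] (P : G →* H) [Finite G] (hX : IsPGroup 2 P.ker) {g : G}
    (hg : orderOf (P g) = 5) : ∃ j : ℕ, orderOf (g ^ (2 ^ j)) = 5 ∧ orderOf (P (g ^ (2 ^ j))) = 5 := by
  haveI : Fact (Nat.Prime 5) := ⟨by norm_num⟩
  have h5 : g ^ 5 ∈ P.ker := by
    rw [MonoidHom.mem_ker, map_pow, ← hg]; exact pow_orderOf_eq_one _
  obtain ⟨j, hj⟩ := hX ⟨_, h5⟩
  have e : (g ^ (2 ^ j)) ^ 5 = 1 := by
    rw [← pow_mul, mul_comm, pow_mul]; exact congrArg Subtype.val hj
  have hP : orderOf (P (g ^ (2 ^ j))) = 5 := by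
    rw [map_pow, Nat.Coprime.orderOf_pow (hg ▸ (Nat.Coprime.pow_right j (by norm_num))), hg]
  exact ⟨j, orderOf_eq_prime e fun e1 => by rw [e1, map_one, orderOf_one] at hP; omega, hP⟩

/-- Elements of order five act fixed point freely on the kernel. -/
def Fpf (P : G →* Sz) : Prop :=
  ∀ g : G, orderOf g = 5 → ∀ x ∈ P.ker, g * x = x * g → x = 1

theorem rel_conjAct [Finite G] (P : G →* Sz) (hP : Function.Surjective P) (hX : IsPGroup 2 P.ker)
    (hf : Fpf P) (N : Subgroup G) [N.Normal] (hle : N ≤ P.ker)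
    (hN : ∀ x ∈ P.ker, ∀ a ∈ N, x * a = a * x) (a : N) (ha : conjAct P hP N hN (y h) a = a) : a = 1 := by
  obtain ⟨g, hg⟩ := hP (y h)
  obtain ⟨j, hj, -⟩ := exists_lift_five h P hX (g := g) (by rw [hg, orderOf_y])
  have hpow : ∀ n : ℕ, conjAct P hP N hN (P (g ^ n)) a = a := fun n => by
    induction n with
    | zero => rw [pow_zero, map_one, map_one]; rfl
    | succ n ih => rw [pow_succ, map_mul, map_mul, hg]; show conjAct P hP N hN (P (g ^ n)) (conjAct P hP N hN (y h) a) = a; rw [ha, ih]
  have e := congrArg Subtype.val (hpow (2 ^ j))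
  rw [conjAct_apply, mul_inv_eq_iff_eq_mul] at e
  exact Subtype.ext (hf _ hj _ (hle a.2) e)

theorem elementary : ∀ n : ℕ, ∀ (G : Type v) [Group G] [Finite G] (P : G →* Sz), Function.Surjective P →
    IsPGroup 2 P.ker → Fpf P → Nat.card P.ker ≤ n →
    (∀ x ∈ P.ker, ∀ z ∈ P.ker, x * z = z * x) ∧ ∀ x ∈ P.ker, x * x = 1 := by
  classical
  intro n
  induction n with
  | zero => intro G _ _ P _ _ _ hn; exact absurd Nat.card_pos (not_lt.2 hn)
  | succ n ih =>
    intro G _ _ P hP hX hf hn
    haveI := h.charP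
    haveI : Fact (Nat.Prime 2) := ⟨Nat.prime_two⟩
    rcases eq_or_ne P.ker ⊥ with e | hne
    · exact ⟨fun x hx z hz => by rw [e, Subgroup.mem_bot] at hx hz; rw [hx, hz],
        fun x hx => by rw [e, Subgroup.mem_bot] at hx; rw [hx, one_mul]⟩
    -- involutions in the centre of the kernel
    let N : Subgroup G :=
      { carrier := {a | a ∈ P.ker ∧ a * a = 1 ∧ ∀ z ∈ P.ker, z * a = a * z}
        one_mem' := ⟨one_mem _, one_mul 1, fun z _ => by simp⟩
        mul_mem' := fun {a b} ha hb => ⟨mul_mem ha.1 hb.1, by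
            rw [mul_assoc, ← mul_assoc b a b, ha.2.2 b hb.1, mul_assoc a b b, hb.2.1,
              mul_one, ha.2.1],
          fun z hz => by rw [← mul_assoc, ha.2.2 z hz, mul_assoc, hb.2.2 z hz, mul_assoc]⟩
        inv_mem' := fun {a} ha => by
          rw [show a⁻¹ = a from inv_eq_of_mul_eq_one_left ha.2.1]; exact ha }
    haveI hNn : N.Normal := ⟨fun a ha g => ⟨(MonoidHom.normal_ker P).conj_mem a ha.1 g,
      by rw [show g * a * g⁻¹ * (g * a * g⁻¹) = g * (a * a) * g⁻¹ by group, ha.2.1, mul_one, mul_inv_cancel],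
      fun z hz => by
        have hz' : g⁻¹ * z * g ∈ P.ker := by simpa using (MonoidHom.normal_ker P).conj_mem z hz g⁻¹
        calc z * (g * a * g⁻¹) = g * ((g⁻¹ * z * g) * a) * g⁻¹ := by group
          _ = g * (a * (g⁻¹ * z * g)) * g⁻¹ := by rw [ha.2.2 _ hz']
          _ = g * a * g⁻¹ * z := by group⟩⟩
    have hNle : N ≤ P.ker := fun a ha => ha.1
    have hNc : ∀ x ∈ P.ker, ∀ a ∈ N, x * a = a * x := fun x hx a ha => ha.2.2 x hx
    have hN1 : N ≠ ⊥ := fun e => by
      haveI : Nontrivial P.ker := (Subgroup.nontrivial_iff_ne_bot _).2 hne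
      have hd : 2 ∣ Nat.card (Subgroup.center P.ker) := by
        haveI := hX.center_nontrivial
        obtain ⟨k, hk⟩ := (IsPGroup.iff_card).1 (hX.to_subgroup (Subgroup.center P.ker))
        rcases k with _ | k
        · exact absurd hk (by rw [pow_zero]; exact (Finite.one_lt_card).ne')
        · exact hk ▸ dvd_pow_self 2 k.succ_ne_zero
      obtain ⟨⟨⟨a, ha⟩, hac⟩, ha2⟩ := exists_prime_orderOf_dvd_card' 2 hd
      have hmem : a ∈ N := ⟨ha, by
        have := pow_orderOf_eq_one (⟨⟨a, ha⟩, hac⟩ : Subgroup.center P.ker)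
        rw [ha2, pow_two] at this
        exact congrArg (fun c : Subgroup.center P.ker => ((c : P.ker) : G)) this,
        fun z hz => congrArg Subtype.val (Subgroup.mem_center_iff.1 hac ⟨z, hz⟩)⟩
      rw [e, Subgroup.mem_bot] at hmem
      subst hmem
      rw [show (⟨⟨(1 : G), ha⟩, hac⟩ : Subgroup.center P.ker) = 1 from rfl, orderOf_one] at ha2
      omega
    -- the quotient
    let P' : G ⧸ N →* Sz := QuotientGroup.lift N P hNle
    have hP' : Function.Surjective P' := fun s => (hP s).elim fun g hg => ⟨g, hg⟩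
    have hker : ∀ g : G, (g : G ⧸ N) ∈ P'.ker ↔ g ∈ P.ker := fun g => Iff.rfl
    let p : P.ker →* P'.ker :=
      { toFun := fun x => ⟨(x.1 : G ⧸ N), x.2⟩
        map_one' := Subtype.ext rfl
        map_mul' := fun x z => Subtype.ext rfl }
    have hp : Function.Surjective p := by
      rintro ⟨q, hq⟩
      obtain ⟨g, rfl⟩ := QuotientGroup.mk_surjective q
      exact ⟨⟨g, hq⟩, rfl⟩
    have hX' : IsPGroup 2 P'.ker := hX.of_surjective p hp
    have hpn : ∀ x : P.ker, p x = 1 ↔ (x : G) ∈ N := fun x => by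
      rw [Subtype.ext_iff]; exact QuotientGroup.eq_one_iff _
    have hf' : Fpf P' := by
      intro q hq5 q' hq' hcomm
      obtain ⟨g0, rfl⟩ := QuotientGroup.mk_surjective q
      obtain ⟨x, rfl⟩ := QuotientGroup.mk_surjective q'
      have hN2 : IsPGroup 2 (QuotientGroup.mk' N).ker := by
        rw [QuotientGroup.ker_mk']; exact hX.to_le hNle
      obtain ⟨j, hg5, -⟩ := exists_lift_five h (QuotientGroup.mk' N) hN2 (g := g0) hq5
      set g := g0 ^ (2 ^ j) with hg
      have hcomm' : g * x * g⁻¹ * x⁻¹ ∈ N := (QuotientGroup.eq_one_iff _).1 (by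
        have hc := (Commute.pow_left (show Commute (g0 : G ⧸ N) x from hcomm) (2 ^ j)).eq
        rw [QuotientGroup.mk_mul, QuotientGroup.mk_mul, QuotientGroup.mk_mul, QuotientGroup.mk_inv,
          QuotientGroup.mk_inv, hg, QuotientGroup.mk_pow, hc]
        group)
      let D : N → N := fun a => ⟨g * a * g⁻¹ * (a : G)⁻¹, mul_mem (hNn.conj_mem a a.2 g) (inv_mem a.2)⟩
      have hD : Function.Injective D := fun a b e => by
        have e' : g * a * g⁻¹ * (a : G)⁻¹ = g * b * g⁻¹ * (b : G)⁻¹ := congrArg Subtype.val e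
        have hab : (b : G)⁻¹ * a ∈ N := mul_mem (inv_mem b.2) a.2
        have hc' : g * ((b : G)⁻¹ * a) * g⁻¹ = (b : G)⁻¹ * a := by
          have hcm : ∀ c d : N, (c : G) * d = d * c := fun c d => hNc c (hNle c.2) d d.2
          have hga : g * a * g⁻¹ = g * b * g⁻¹ * (b : G)⁻¹ * a := by rw [← e']; group
          calc g * ((b : G)⁻¹ * a) * g⁻¹ = (g * b * g⁻¹)⁻¹ * (g * a * g⁻¹) := by group
            _ = (b : G)⁻¹ * a := by rw [hga]; group
        exact Subtype.ext (inv_mul_eq_one.1 (hf g hg5 _ (hNle hab) (mul_inv_eq_iff_eq_mul.1 hc'))).symm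
      obtain ⟨⟨a, ha⟩, hDa⟩ := (Finite.surjective_of_injective hD) (⟨_, inv_mem hcomm'⟩ : N)
      have eD : g * a * g⁻¹ * a⁻¹ = (g * x * g⁻¹ * x⁻¹)⁻¹ := congrArg Subtype.val hDa
      have hfix : g * (x * a) = (x * a) * g := by
        refine mul_inv_eq_iff_eq_mul.1 ?_
        have hga : g * a * g⁻¹ = (g * x * g⁻¹ * x⁻¹)⁻¹ * a := by rw [← eD]; group
        calc g * (x * a) * g⁻¹ = (g * x * g⁻¹ * x⁻¹) * x * (g * a * g⁻¹) := by group
          _ = (g * x * g⁻¹ * x⁻¹) * (x * (g * x * g⁻¹ * x⁻¹)⁻¹) * a := by rw [hga]; group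
          _ = x * a := by rw [hNc x hq' _ (inv_mem hcomm'), mul_inv_cancel_left]
      have := hf g hg5 (x * a) (mul_mem hq' ha.1) hfix
      exact (QuotientGroup.eq_one_iff x).2 (by rw [eq_inv_of_mul_eq_one_left this]; exact inv_mem ha)
    have hcard : Nat.card P'.ker ≤ n := by
      have hlt : Nat.card P'.ker < Nat.card P.ker := by
        rcases lt_or_eq_of_le (Nat.card_le_card_of_surjective p hp) with hlt | he
        · exact hlt
        exfalso
        obtain ⟨⟨a, ha⟩, ha1⟩ := N.ne_bot_iff_exists_ne_one.1 hN1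
        have hb := (hp.bijective_of_nat_card_le he.ge).1
        have e1 : (⟨a, hNle ha⟩ : P.ker) = 1 := hb (by rw [map_one, hpn]; exact ha)
        exact ha1 (Subtype.ext (show a = 1 from congrArg Subtype.val e1))
      omega
    obtain ⟨hab', hsq'⟩ := ih (G ⧸ N) P' hP' hX' hf' hcard
    have hM : ∀ u w : P'.ker, u * w = w * u := fun u w => Subtype.ext (hab' _ u.2 _ w.2)
    have hcN : ∀ a b : N, a * b = b * a := fun a b => Subtype.ext (hNc a (hNle a.2) b b.2)
    letI : CommGroup P'.ker := { (inferInstance : Group P'.ker) with mul_comm := hM }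
    letI : CommGroup N := { (inferInstance : Group N) with mul_comm := hcN }
    let γ := addAct (conjAct P hP N hNc)
    let β := addAct (conjAct P' hP' P'.ker hab')
    have hγ : Rel5 h (star (F := F) γ) := rel5_star h fun a ha =>
      rel_conjAct h P hP hX hf N hNle hNc a.toMul ha
    have hβ : Rel5 h (star (F := F) β) := rel5_star h fun a ha =>
      rel_conjAct h P' hP' hX' hf' _ le_rfl hab' a.toMul ha
    have hM2 : ∀ a : Additive P'.ker, a + a = 0 := fun a => Subtype.ext (hsq' _ a.toMul.2)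
    have hN2 : ∀ a : Additive N, a + a = 0 := fun a => Subtype.ext a.toMul.2.2.1
    -- commutators
    have hcom : ∀ x z : P.ker, (x : G) * z * (x : G)⁻¹ * (z : G)⁻¹ ∈ N := fun x z => by
      refine (hpn (x * z * x⁻¹ * z⁻¹)).1 ?_
      rw [map_mul, map_mul, map_mul, map_inv, map_inv, hM (p x) (p z), mul_inv_cancel_right, mul_inv_cancel]
    let cm : P.ker → P.ker → N := fun x z => ⟨_, hcom x z⟩
    have cm_mulr : ∀ x z z', cm x (z * z') = cm x z * cm x z' := fun x z z' => Subtype.ext (by
      show (x : G) * (z * z') * (x : G)⁻¹ * ((z : G) * z')⁻¹ = (x * z * (x : G)⁻¹ * (z : G)⁻¹) * (x * z' * (x : G)⁻¹ * (z' : G)⁻¹)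
      calc (x : G) * (z * z') * (x : G)⁻¹ * ((z : G) * z')⁻¹
          = (x * z * (x : G)⁻¹ * (z : G)⁻¹) * ((z : G) * (x * z' * (x : G)⁻¹ * (z' : G)⁻¹)) * (z : G)⁻¹ := by group
        _ = _ := by rw [hNc z z.2 _ (hcom x z'), mul_assoc, mul_inv_cancel_right])
    have cm_swap : ∀ x z, cm x z = cm z x := fun x z => by
      have hinv : cm z x = (cm x z)⁻¹ := Subtype.ext (by
        show _ = ((x : G) * z * (x : G)⁻¹ * (z : G)⁻¹)⁻¹
        group
        simp only [cm]
        group)
      rw [hinv]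
      exact eq_inv_of_mul_eq_one_left (Subtype.ext (cm x z).2.2.1)
    have cm_N : ∀ x (a : P.ker), (a : G) ∈ N → cm x a = 1 := fun x a ha => Subtype.ext (by
      show (x : G) * a * (x : G)⁻¹ * (a : G)⁻¹ = 1
      rw [hNc x x.2 _ ha, mul_inv_cancel_right, mul_inv_cancel])
    have cm_congr : ∀ x z z', p z = p z' → cm x z = cm x z' := fun x z z' e => by
      rw [← mul_inv_cancel_left z z', cm_mulr, cm_N x (z⁻¹ * z') ((hpn _).1 (by
        rw [map_mul, map_inv, e, inv_mul_cancel])), mul_one]
    let s : P'.ker → P.ker := Function.surjInv hp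
    have hs : ∀ a, p (s a) = a := Function.surjInv_eq hp
    have cm_p : ∀ x z, cm x z = cm (s (p x)) (s (p z)) := fun x z => by
      rw [cm_congr x z (s (p z)) (hs _).symm, cm_swap, cm_congr _ x (s (p x)) (hs _).symm, cm_swap]
    let c : Additive P'.ker → Additive P'.ker → Additive N := fun a b => Additive.ofMul (cm (s a.toMul) (s b.toMul))
    have hcr : ∀ a b b', c a (b + b') = c a b + c a b' := fun a b b' => by
      show Additive.ofMul (cm (s a.toMul) (s (b.toMul * b'.toMul))) = Additive.ofMul _ + Additive.ofMul _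
      rw [cm_congr _ _ (s b.toMul * s b'.toMul) (by rw [map_mul, hs, hs, hs]), cm_mulr, ofMul_mul]
    have hcs : ∀ a b, c a b = c b a := fun a b => congrArg Additive.ofMul (cm_swap _ _)
    have hcg : ∀ g a b, c (β g a) (β g b) = γ g (c a b) := fun g a b => by
      obtain ⟨g, rfl⟩ := hP g
      refine congrArg Additive.ofMul (Subtype.ext ?_)
      let cg : P.ker → P.ker := fun x => ⟨g * x * g⁻¹, (MonoidHom.normal_ker P).conj_mem x x.2 g⟩
      have hpc : ∀ a : P'.ker, conjAct P' hP' P'.ker hab' (P g) a = p (cg (s a)) :=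
        fun a => Subtype.ext (by
          show ((conjAct P' hP' P'.ker _ (P' (g : G ⧸ N)) a : P'.ker) : G ⧸ N) = _
          rw [conjAct_apply]
          conv_lhs => rw [← hs a]
          rfl)
      show (cm (s (conjAct P' hP' P'.ker hab' (P g) a.toMul)) (s (conjAct P' hP' P'.ker hab' (P g) b.toMul)) : G) =
        (conjAct P hP N hNc (P g) (cm (s a.toMul) (s b.toMul)) : G)
      rw [hpc, hpc, ← cm_p, conjAct_apply]
      show g * _ * g⁻¹ * (g * _ * g⁻¹) * (g * _ * g⁻¹)⁻¹ * (g * _ * g⁻¹)⁻¹ = g * (_ * _ * _⁻¹ * _⁻¹) * g⁻¹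
      group
    let V₁ := Additive N →+ F
    let V₂ := Module.Dual F (Additive P'.ker →+ F)
    let form : V₁ → Additive P'.ker → (Additive P'.ker →+ F) := fun φ a =>
      AddMonoidHom.mk' (fun b => φ (c a b)) fun b b' => by rw [hcr, map_add]
    let inner : V₁ → V₂ → (Additive P'.ker →+ F) := fun φ v =>
      AddMonoidHom.mk' (fun a => v (form φ a)) fun a a' => by
        rw [← map_add v]
        congr 1
        refine AddMonoidHom.ext fun b => ?_
        show φ (c (a + a') b) = φ (c a b) + φ (c a' b)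
        rw [hcs, hcr, map_add, hcs b, hcs b]
    let T₀ : V₁ →ₗ[F] V₂ →ₗ[F] V₂ →ₗ[F] F :=
      { toFun := fun φ => LinearMap.mk₂ F (fun u v => u (inner φ v))
          (fun u u' v => rfl) (fun r u v => rfl)
          (fun u v v' => by rw [← map_add u]; congr 1)
          (fun r u v => by rw [← map_smul u]; congr 1)
        map_add' := fun φ ψ => LinearMap.ext₂ fun u v => by
          show u (inner (φ + ψ) v) = u (inner φ v) + u (inner ψ v)
          rw [← map_add u]; congr 1
          refine AddMonoidHom.ext fun a => ?_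
          show v (form (φ + ψ) a) = v (form φ a) + v (form ψ a)
          rw [← map_add v]; congr 1
        map_smul' := fun r φ => LinearMap.ext₂ fun u v => by
          show u (inner (r • φ) v) = r • u (inner φ v)
          rw [← map_smul u]; congr 1
          refine AddMonoidHom.ext fun a => ?_
          show v (form (r • φ) a) = r • v (form φ a)
          rw [← map_smul v]; congr 1 }
    have hT : IsTri (star γ) (dual (star β)) (dual (star β)) T₀ := fun g φ u v => by
      show u (star β g⁻¹ (inner (star γ g φ) (dual (star β) g v))) = u (inner φ v)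
      congr 1
      refine AddMonoidHom.ext fun a => ?_
      show v (star β g⁻¹ (form (star γ g φ) (β g⁻¹⁻¹ a))) = v (form φ a)
      congr 1
      refine AddMonoidHom.ext fun b => ?_
      show φ (γ g⁻¹ (c (β g⁻¹⁻¹ a) (β g⁻¹⁻¹ b))) = φ (c a b)
      rw [inv_inv, hcg, ← amul, inv_mul_cancel, aone]
    have hT0 := hT.eq_zero h hγ hβ.dual hβ.dual
    have hc0 : ∀ a b, c a b = 0 := fun a b => sep_zero (F := F) hN2 fun φ => by
      have := LinearMap.congr_fun (LinearMap.congr_fun (LinearMap.congr_fun hT0 φ)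
        { toFun := fun η => η a, map_add' := fun _ _ => rfl, map_smul' := fun _ _ => rfl })
        { toFun := fun η => η b, map_add' := fun _ _ => rfl, map_smul' := fun _ _ => rfl }
      exact this
    have hXc : ∀ x ∈ P.ker, ∀ z ∈ P.ker, x * z = z * x := fun x hx z hz => by
      have e : cm ⟨x, hx⟩ ⟨z, hz⟩ = 1 := by
        rw [cm_p]; exact congrArg Additive.toMul (hc0 (Additive.ofMul (p ⟨x, hx⟩)) (Additive.ofMul (p ⟨z, hz⟩)))
      exact mul_inv_eq_iff_eq_mul.1 (mul_inv_eq_one.1 (congrArg Subtype.val e))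
    refine ⟨hXc, ?_⟩
    letI : CommGroup P.ker := { (inferInstance : Group P.ker) with mul_comm := fun a b => Subtype.ext (hXc _ a.2 _ b.2) }
    let α := addAct (conjAct P hP P.ker fun x hx a ha => hXc x hx a ha)
    have S : Tower α β γ (MonoidHom.toAdditive (Subgroup.inclusion hNle)) (MonoidHom.toAdditive p) :=
      { inj := fun a b e => Subtype.ext (show (a.toMul : G) = b.toMul from congrArg (fun z : Additive P.ker => ((z.toMul : P.ker) : G)) e)
        surj := hp
        exact := fun x => ⟨fun e => ⟨Additive.ofMul ⟨_, (hpn x.toMul).1 e⟩, rfl⟩, fun ⟨w, hw⟩ => by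
          subst hw; exact (hpn _).2 w.toMul.2⟩
        ihom := fun g a => by
          obtain ⟨g, rfl⟩ := hP g
          refine congrArg Additive.ofMul (Subtype.ext ?_)
          show ((conjAct P hP N hNc (P g) a.toMul : N) : G) = _
          rw [conjAct_apply]
          exact (conjAct_apply P hP P.ker _ g ⟨(a.toMul : G), hNle a.toMul.2⟩).symm
        phom := fun g a => by
          obtain ⟨g, rfl⟩ := hP g
          refine congrArg Additive.ofMul (Subtype.ext ?_)
          show ((conjAct P hP P.ker (fun x hx a ha => hXc x hx a ha) (P g) a.toMul : P.ker) : G) = (conjAct P' hP' P'.ker hab' (P' (g : G ⧸ N)) (p a.toMul) : G ⧸ N)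
          rw [conjAct_apply, conjAct_apply]
          rfl
        two_M := hM2
        two_N := hN2 }
    exact fun x hx => congrArg Subtype.val (S.exp_two h hβ hγ (Additive.ofMul ⟨x, hx⟩))

end Cfsg.Agent.SzFpf
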