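import Cfsg.Agent.Lib.SzFpf.Forms
import Mathlib.Algebra.Module.ZMod

/-!
# An abelian group of exponent four with a fixed point free action of a Suzuki group has exponent two
-/

set_option autoImplicit false
set_option linter.unusedSectionVars false
set_option linter.style.haveILetI false

namespace Cfsg.Agent.SzFpf

open Cfsg.Agent.Suzuki

universe u v v₁ v₂ v₃

variable {F : Type u} [Field F] [Fintype F] {m : ℕ} (h : SzField F m)

local notation "Sz" => Cfsg.Sz F m

/-! ### The operator of an involution on a module -/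

section linear

variable {V : Type v} [AddCommGroup V] [Module F V]

/-- `1 + T(0, c)`. -/
def dl (ρ : Sz →* Module.End F V) (c : F) : V →ₗ[F] V := ρ (T h 0 c) + LinearMap.id

theorem dl_apply (ρ : Sz →* Module.End F V) (c : F) (v : V) : dl h ρ c v = ρ (T h 0 c) v + v := rfl

theorem IsHom.dl {V' : Type v₁} [AddCommGroup V'] [Module F V'] {ρ : Sz →* Module.End F V}
    {ρ' : Sz →* Module.End F V'} {f : V →ₗ[F] V'} (hf : IsHom ρ ρ' f) (c : F) (v : V) :
    f (dl h ρ c v) = SzFpf.dl h ρ' c (f v) := by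
  rw [dl_apply, dl_apply, map_add, hf]

theorem dl_nat (σ : F →+* F) (c : F) (x : Fin 4 → F) :
    dl h (nat σ) c x = ![σ c * x 2 + σ (θ m c) * x 3, σ c * x 3, 0, 0] := by
  rw [dl_apply, nat_T h]
  funext i
  fin_cases i <;> simp [fz_eq]
  · linear_combination x 0 * h.two_eq_zero
  · linear_combination x 1 * h.two_eq_zero
  · linear_combination x 2 * h.two_eq_zero
  · linear_combination x 3 * h.two_eq_zero

variable [FiniteDimensional F V]

theorem dl_dl_zero {ρ : Sz →* Module.End F V} (hρ : Rel5 h ρ) (c d : F) (v : V) :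
    dl h ρ c (dl h ρ d v) = 0 := by
  have := eq_zero_of_nat h hρ (φ := (dl h ρ c).comp (dl h ρ d)) fun σ f hf x => by
    rw [LinearMap.comp_apply, ← hf.dl, ← hf.dl, dl_nat, dl_nat]
    convert map_zero f using 2
    funext i; fin_cases i <;> simp
  exact LinearMap.congr_fun this v

theorem dl_swap_bijective {ρ : Sz →* Module.End F V} (hρ : Rel5 h ρ) {c : F} (hc : c ≠ 0) :
    Function.Bijective (fun v => dl h ρ c (ρ (W h) v) + ρ (W h) (dl h ρ c v)) := by
  let R : V →ₗ[F] V := (dl h ρ c).comp (ρ (W h)) + (ρ (W h) : V →ₗ[F] V).comp (dl h ρ c)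
  suffices hs : Function.Surjective R from ⟨LinearMap.injective_iff_surjective.2 hs, hs⟩
  rw [← LinearMap.range_eq_top, eq_top_iff, ← natSpan_eq_top h hρ, natSpan, Submodule.span_le]
  rintro _ ⟨σ, f, y, hf, rfl⟩
  have hσ : σ c ≠ 0 := (map_ne_zero σ).2 hc
  refine ⟨f ![(y 0 - σ (θ m c) * (y 1 / σ c)) / σ c * 0 + y 1 / σ c,
    (y 0 - σ (θ m c) * (y 1 / σ c)) / σ c, (y 3 - σ (θ m c) * (y 2 / σ c)) / σ c, y 2 / σ c], ?_⟩
  show dl h ρ c (ρ (W h) _) + ρ (W h) (dl h ρ c _) = f y
  rw [← hf, ← hf.dl, ← hf.dl, ← hf, ← map_add, nat_W h, dl_nat, dl_nat, nat_W h]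
  congr 1
  funext i
  fin_cases i <;> simp <;> field_simp
  all_goals ring

/-- A non-zero vector has a non-zero image in a natural module. -/
theorem exists_hom_nat {ρ : Sz →* Module.End F V} (hρ : Rel5 h ρ) {v : V} (hv : v ≠ 0) :
    ∃ (σ : F →+* F) (r : V →ₗ[F] (Fin 4 → F)), IsHom ρ (nat σ) r ∧ r v ≠ 0 := by
  by_contra hcon
  push Not at hcon
  have : Module.Dual.eval F V v = 0 := eq_zero_of_nat h hρ.dual fun σ g hg z => by
    have hjs : LinearMap.range (jmap (F := F)) = ⊤ := by
      refine Submodule.eq_top_of_finrank_eq ?_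
      rw [LinearMap.finrank_range_of_inj jmap_injective, Subspace.dual_finrank_eq]
    let J := LinearEquiv.ofBijective (jmap (F := F)) ⟨jmap_injective, LinearMap.range_eq_top.1 hjs⟩
    let r : V →ₗ[F] (Fin 4 → F) := J.symm.toLinearMap.comp (g.dualMap.comp (Module.Dual.eval F V))
    have hr : ∀ x z, jmap (r x) z = g z x := fun x z =>
      LinearMap.congr_fun (J.apply_symm_apply (g.dualMap (Module.Dual.eval F V x))) z
    have hrh : IsHom ρ (nat σ) r := fun k x => jmap_injective (LinearMap.ext fun z => by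
      rw [hr, jmap_hom h σ, dual_apply, hr, hg, dual_apply, inv_inv])
    show g z v = 0
    rw [← hr, hcon σ r hrh]
    simp
  exact hv ((Module.forall_dual_apply_eq_zero_iff F v).1 fun φ => LinearMap.congr_fun this φ)

end linear

/-! ### Additive actions -/

section additive

variable {A : Type v} [AddCommGroup A]

theorem amul (α : Sz →* AddMonoid.End A) (g k : Sz) (a : A) : α (g * k) a = α g (α k a) := by
  rw [map_mul]; rfl

theorem aone (α : Sz →* AddMonoid.End A) (a : A) : α 1 a = a := by rw [map_one]; rfl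

/-- The functions to `F` as a module. -/
def star (α : Sz →* AddMonoid.End A) : Sz →* Module.End F (A →+ F) where
  toFun g :=
    { toFun := fun φ => φ.comp (α g⁻¹)
      map_add' := fun φ ψ => rfl
      map_smul' := fun c φ => rfl }
  map_one' := LinearMap.ext fun φ => AddMonoidHom.ext fun a => by
    show φ (α (1 : Sz)⁻¹ a) = φ a
    rw [inv_one, aone]
  map_mul' g k := LinearMap.ext fun φ => AddMonoidHom.ext fun a => by
    show φ (α (g * k)⁻¹ a) = φ (α k⁻¹ (α g⁻¹ a))
    rw [mul_inv_rev, amul]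

theorem star_apply (α : Sz →* AddMonoid.End A) (g : Sz) (φ : A →+ F) (a : A) :
    star α g φ a = φ (α g⁻¹ a) := rfl

instance [Finite A] : Module.Finite F (A →+ F) :=
  haveI : Finite (A →+ F) := Finite.of_injective _ DFunLike.coe_injective
  Module.Finite.of_finite

include h

/-- `1 + T(0, c)`. -/
def da (α : Sz →* AddMonoid.End A) (c : F) (a : A) : A := α (T h 0 c) a + a

theorem da_add (α : Sz →* AddMonoid.End A) (c : F) (a b : A) : da h α c (a + b) = da h α c a + da h α c b := by
  simp only [da, map_add]; abel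

theorem da_zero (α : Sz →* AddMonoid.End A) (c : F) : da h α c (0 : A) = 0 := by simp [da]

theorem tinv (c : F) : (T h (0 : F) c)⁻¹ = T h 0 c := by rw [T_inv]; simp

theorem da_self (α : Sz →* AddMonoid.End A) (c : F) (a : A) :
    da h α c (da h α c a) = da h α c a + da h α c a := by
  simp only [da, map_add]
  rw [← amul, T_mul, θ_zero, zero_mul, add_zero, add_zero, h.add_self, T_zero, aone]
  abel

theorem da_comm (α : Sz →* AddMonoid.End A) (c : F) {g : Sz} (hg : g * T h 0 c = T h 0 c * g) (a : A) :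
    α g (da h α c a) = da h α c (α g a) := by
  simp only [da, map_add, ← amul, hg]

theorem da_da_comm (α : Sz →* AddMonoid.End A) (c d : F) (a : A) :
    da h α c (da h α d a) = da h α d (da h α c a) := by
  simp only [da, map_add, ← amul, T_mul, θ_zero, zero_mul, add_zero, add_comm c d]
  abel

theorem star_dl (α : Sz →* AddMonoid.End A) (c : F) (φ : A →+ F) (a : A) :
    dl h (star α) c φ a = φ (da h α c a) := by
  show φ (α (T h 0 c)⁻¹ a) + φ a = _
  rw [tinv, da, map_add]

/-- Fixed point freeness of the element of order five passes to the functions. -/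
theorem rel5_star {α : Sz →* AddMonoid.End A} (hα : ∀ a, α (y h) a = a → a = 0) : Rel5 h (star (F := F) α) := by
  intro φ hφ
  have hi : ∀ i a, φ (α (y h ^ i) a) = φ a := fun i => by
    induction i with
    | zero => intro a; rw [pow_zero, aone]
    | succ i ih =>
      intro a
      have e := DFunLike.congr_fun hφ (α (y h ^ (i + 1)) a)
      rw [star_apply, ← amul, pow_succ', inv_mul_cancel_left, ih] at e
      rw [pow_succ']; exact e.symm
  refine AddMonoidHom.ext fun a => ?_
  have hs : α (y h ^ 0) a + α (y h ^ 1) a + α (y h ^ 2) a + α (y h ^ 3) a + α (y h ^ 4) a = 0 := hα _ (by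
    simp only [map_add, ← amul, ← pow_succ']
    rw [y_pow_five, pow_zero]
    abel)
  have e := congrArg φ hs
  simp only [map_add, hi, map_zero] at e
  rw [AddMonoidHom.zero_apply]
  linear_combination e - 2 * φ a * h.two_eq_zero

omit h

/-- Additive functions separate a group of exponent two. -/
theorem sep [CharP F 2] (h2 : ∀ a : A, a + a = 0) (R : AddSubgroup A) {a : A} (ha : a ∉ R) :
    ∃ φ : A →+ F, (∀ r ∈ R, φ r = 0) ∧ φ a ≠ 0 := by
  letI : Module (ZMod 2) A := AddCommGroup.zmodModule fun x => by rw [two_nsmul, h2]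
  obtain ⟨f, hf, hR⟩ := Submodule.exists_dual_map_eq_bot_of_notMem (p := AddSubgroup.toZModSubmodule 2 R)
    (x := a) ha inferInstance
  refine ⟨(ZMod.castHom (dvd_refl 2) F).toAddMonoidHom.comp f.toAddMonoidHom, fun r hr => ?_, fun e => ?_⟩
  · have : f r = 0 := (Submodule.mem_bot _).1 (hR ▸ Submodule.mem_map_of_mem (f := f) hr)
    simp [this]
  · exact hf (ZMod.castHom_injective F (e.trans (map_zero _).symm))

theorem sep_zero [CharP F 2] (h2 : ∀ a : A, a + a = 0) {a : A} (ha : ∀ φ : A →+ F, φ a = 0) : a = 0 := by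
  by_contra hne
  obtain ⟨φ, -, hφ⟩ := sep (F := F) h2 ⊥ (fun e => hne ((AddSubgroup.mem_bot).1 e))
  exact hφ (ha φ)

include h

variable [Finite A]

theorem da_da_zero (h2 : ∀ a : A, a + a = 0) {α : Sz →* AddMonoid.End A} (hα : Rel5 h (star (F := F) α))
    (c d : F) (a : A) : da h α c (da h α d a) = 0 := by
  haveI := h.charP
  refine sep_zero (F := F) h2 fun φ => ?_
  rw [← star_dl, ← star_dl, dl_dl_zero h hα]
  rfl

/-- The kernel of `1 + T(0, c)` is its image. -/
theorem exists_da_eq (h2 : ∀ a : A, a + a = 0) {α : Sz →* AddMonoid.End A} (hα : Rel5 h (star (F := F) α))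
    {c : F} (hc : c ≠ 0) {a : A} (ha : da h α c a = 0) : ∃ b, da h α c b = a := by
  haveI := h.charP
  have hsurj : Function.Surjective fun b => da h α c (α (W h) b) + α (W h) (da h α c b) := by
    refine Finite.surjective_of_injective fun b b' e => ?_
    refine sub_eq_zero.1 (sep_zero (F := F) h2 fun φ => ?_)
    obtain ⟨ψ, rfl⟩ := (dl_swap_bijective h hα hc).2 φ
    show (dl h (star α) c (star α (W h) ψ) + star α (W h) (dl h (star α) c ψ)) (b - b') = 0
    have : ∀ z, (dl h (star α) c (star α (W h) ψ) + star α (W h) (dl h (star α) c ψ)) z =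
        ψ (da h α c (α (W h) z) + α (W h) (da h α c z)) := fun z => by
      rw [AddMonoidHom.add_apply, star_dl, star_apply, star_apply, star_dl, W_inv, map_add, add_comm]
    rw [map_sub, this, this]
    exact sub_eq_zero.2 (congrArg ψ e)
  obtain ⟨b, hb⟩ := hsurj a
  have hb' : da h α c (α (W h) b) + α (W h) (da h α c b) = a := hb
  have h0 : ∀ z, da h α c (da h α c z) = 0 := da_da_zero h h2 hα c c
  have hzero : da h α c b = 0 := by
    have e : da h α c (α (W h) (da h α c b)) + α (W h) (da h α c (da h α c b)) = 0 := by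
      have := congrArg (da h α c) hb'
      rw [da_add, h0, zero_add, ha] at this
      rw [this, h0, map_zero, add_zero]
    refine sep_zero (F := F) h2 fun φ => ?_
    obtain ⟨ψ, rfl⟩ := (dl_swap_bijective h hα hc).2 φ
    show (dl h (star α) c (star α (W h) ψ) + star α (W h) (dl h (star α) c ψ)) _ = 0
    rw [AddMonoidHom.add_apply, star_dl, star_apply, star_apply, star_dl, W_inv, add_comm, ← map_add, e,
      map_zero]
  refine ⟨α (W h) b, ?_⟩
  rw [← hb', hzero, map_zero, add_zero]

end additive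

/-! ### The lifting argument -/

variable {X : Type v₁} [AddCommGroup X] {M : Type v₂} [AddCommGroup M] [Finite M]
  {N : Type v₃} [AddCommGroup N] [Finite N]

/-- An extension of groups of exponent two with actions. -/
structure Tower (α : Cfsg.Sz F m →* AddMonoid.End X) (β : Cfsg.Sz F m →* AddMonoid.End M)
    (γ : Cfsg.Sz F m →* AddMonoid.End N) (i : N →+ X) (p : X →+ M) : Prop where
  inj : Function.Injective i
  surj : Function.Surjective p
  exact : ∀ x, p x = 0 ↔ ∃ w, i w = x
  ihom : ∀ g w, i (γ g w) = α g (i w)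
  phom : ∀ g x, p (α g x) = β g (p x)
  two_M : ∀ a : M, a + a = 0
  two_N : ∀ a : N, a + a = 0

variable {α : Cfsg.Sz F m →* AddMonoid.End X} {β : Cfsg.Sz F m →* AddMonoid.End M}
  {γ : Cfsg.Sz F m →* AddMonoid.End N} {i : N →+ X} {p : X →+ M}

include h

theorem Tower.i_da (S : Tower α β γ i p) (c : F) (w : N) : i (da h γ c w) = da h α c (i w) := by
  rw [da, da, map_add, S.ihom]

theorem Tower.p_da (S : Tower α β γ i p) (c : F) (x : X) : p (da h α c x) = da h β c (p x) := by
  rw [da, da, map_add, S.phom]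

/-- There are no elements of order four. -/
theorem Tower.exp_two (S : Tower α β γ i p) (hβ : Rel5 h (star (F := F) β)) (hγ : Rel5 h (star (F := F) γ))
    (x : X) : x + x = 0 := by
  classical
  haveI := h.charP
  have hN : ∀ x, ∃ w, i w = x + x := fun x => (S.exact _).1 (by rw [map_add, S.two_M])
  choose sq hsq using hN
  have hsq_lift : ∀ x x', p x = p x' → sq x = sq x' := fun x x' e => S.inj (by
    obtain ⟨w, hw⟩ := (S.exact (x - x')).1 (by rw [map_sub, e, sub_self])
    have h0 : (x - x') + (x - x') = 0 := by rw [← hw, ← map_add, S.two_N, map_zero]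
    rw [hsq, hsq, ← sub_eq_zero, ← h0]; abel)
  let sec : M → X := Function.surjInv S.surj
  have hsec : ∀ a, p (sec a) = a := Function.surjInv_eq S.surj
  let π : M →+ N := AddMonoidHom.mk' (fun a => sq (sec a)) fun a b => S.inj (by
    rw [hsq_lift _ (sec a + sec b) (by rw [map_add, hsec, hsec, hsec]), map_add, hsq, hsq, hsq]; abel)
  have hπ : ∀ x, i (π (p x)) = x + x := fun x => by
    show i (sq (sec (p x))) = _
    rw [hsq_lift _ x (hsec _), hsq]
  have hπg : ∀ g a, π (β g a) = γ g (π a) := fun g a => S.inj (by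
    rw [← hsec a, ← S.phom, hπ, S.ihom, hπ, map_add])
  suffices hzero : ∀ a, π a = 0 by rw [← hπ x, hzero, map_zero]
  -- the squaring map on functions
  let k : (N →+ F) →ₗ[F] (M →+ F) :=
    { toFun := fun φ => φ.comp π, map_add' := fun φ ψ => rfl, map_smul' := fun c φ => rfl }
  have hkhom : IsHom (star γ) (star β) k := fun g φ => AddMonoidHom.ext fun a => by
    show φ (γ g⁻¹ (π a)) = φ (π (β g⁻¹ a))
    rw [hπg]
  suffices hk : k = 0 by
    intro a
    exact sep_zero (F := F) S.two_N fun φ => DFunLike.congr_fun (LinearMap.congr_fun hk φ) a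
  refine eq_zero_of_nat h hγ fun σ f hf => ?_
  let kf : (Fin 4 → F) →ₗ[F] (M →+ F) := k.comp f
  have hkf : IsHom (nat σ) (star β) kf := fun g z => by
    show k (f _) = _
    rw [hf, hkhom]; rfl
  suffices h0 : kf (E 0) = 0 by
    have htop := nat_irreducible h σ (N := LinearMap.ker kf) (fun g z hz => by
      rw [LinearMap.mem_ker] at hz ⊢; rw [hkf, hz, map_zero]) fun e => by
        have := (Submodule.eq_bot_iff _).1 e _ (LinearMap.mem_ker.2 h0)
        simpa [E] using congrFun this 0
    exact fun z => LinearMap.congr_fun (LinearMap.ker_eq_top.1 htop) z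
  by_contra hne
  obtain ⟨τ, r, hr, hr0⟩ := exists_hom_nat h hβ hne
  -- the scalar
  obtain ⟨c, hc0, hc⟩ : ∃ c : F, c ≠ 0 ∧ r (kf (E 0)) = c • E 0 := by
    have hfix : ∀ a b, nat τ (T h a b) (r (kf (E 0))) = r (kf (E 0)) := fun a b => by
      rw [← hr, ← hkf, tT0]
    generalize r (kf (E 0)) = v at hfix hr0
    have e10 := hfix 1 0
    rw [nat_T h] at e10
    have h3 : v 3 = 0 := by simpa using congrFun e10 2
    have h2 : v 2 = 0 := by simpa [h3] using congrFun e10 1
    have h1 : v 1 = 0 := by simpa [h2, h3] using congrFun e10 0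
    have hv : v = v 0 • E 0 := by funext j; fin_cases j <;> simp [E, h1, h2, h3]
    exact ⟨v 0, fun e => hr0 (by rw [hv, e, zero_smul]), hv⟩
  have hστ : σ = τ := RingHom.ext fun x => by
    by_cases hx : x = 0
    · rw [hx, map_zero, map_zero]
    obtain ⟨l, hl⟩ := (lam_bijective h).2 (Units.mk0 x hx)
    have e : r (kf (nat σ (Suzuki.H h l) (E 0))) = nat τ (Suzuki.H h l) (r (kf (E 0))) := by rw [hkf, hr]
    rw [(tH h σ l).1, map_smul, map_smul, hc, map_smul, (tH h τ l).1, hl, Units.val_mk0] at e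
    have := congrFun e 0
    simp [E] at this
    exact mul_right_cancel₀ hc0 (by linear_combination this)
  subst hστ
  have hc3 : r (kf (E 3)) = c • E 3 := by
    rw [← (tW h σ).1, hkf, hr, hc, map_smul]
  obtain ⟨b, hb0, hb1, -⟩ := exists_ne h
  -- the difference of lifts fixed by two involutions
  let Diff : M → N → Prop := fun a w => ∃ x v, p x = a ∧ i w = da h α 1 x - da h α b v
  have hex : ∀ a, ∃ w, Diff a w := fun a => by
    obtain ⟨v, hv⟩ := exists_da_eq h S.two_M hβ hb0 (da_da_zero h S.two_M hβ b 1 a)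
    obtain ⟨w, hw⟩ := (S.exact (da h α 1 (sec a) - da h α b (sec v))).1 (by
      rw [map_sub, S.p_da, S.p_da, hsec, hsec, hv, sub_self])
    exact ⟨w, sec a, sec v, hsec a, hw⟩
  have hdep : ∀ (d : F), d ≠ 0 → ∀ z, da h β d (p z) = 0 → ∃ w, da h α d z = i (da h γ d w) := fun d hd z hz => by
    obtain ⟨a, ha⟩ := exists_da_eq h S.two_M hβ hd hz
    obtain ⟨w, hw⟩ := (S.exact (z - da h α d (sec a))).1 (by rw [map_sub, S.p_da, hsec, ha, sub_self])
    refine ⟨π a + w, ?_⟩
    have hz' : z = da h α d (sec a) + i w := by rw [hw, add_sub_cancel]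
    conv_lhs => rw [hz', da_add, da_self, ← da_add]
    rw [← hπ (sec a), hsec, S.i_da, map_add, da_add]
  let Z : Submodule F (N →+ F) := LinearMap.ker (dl h (star γ) 1) ⊓ LinearMap.ker (dl h (star γ) b)
  have hZmem : ∀ φ ∈ Z, ∀ w, φ (da h γ 1 w) = 0 ∧ φ (da h γ b w) = 0 := fun φ hφ w => by
    rw [← star_dl, ← star_dl, LinearMap.mem_ker.1 hφ.1, LinearMap.mem_ker.1 hφ.2]
    exact ⟨rfl, rfl⟩
  have huniq : ∀ φ ∈ Z, ∀ a w w', Diff a w → Diff a w' → φ w = φ w' := by
    rintro φ hφ a w w' ⟨x, v, hx, hw⟩ ⟨x', v', hx', hw'⟩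
    obtain ⟨z, hz⟩ := (S.exact (x - x')).1 (by rw [map_sub, hx, hx', sub_self])
    have e1 : da h β b (p (v - v')) = 0 := by
      rw [← S.p_da]
      have : da h α b (v - v') = da h α 1 (i z) - (i w - i w') := by
        rw [hw, hw', hz]; simp only [da, map_sub]; abel
      rw [this, ← S.i_da, ← map_sub, ← map_sub]
      exact (S.exact _).2 ⟨_, rfl⟩
    obtain ⟨z', hz'⟩ := hdep b hb0 _ e1
    have : i (w - w') = i (da h γ 1 z - da h γ b z') := by
      rw [map_sub, map_sub, hw, hw', S.i_da, hz, ← hz']; simp only [da, map_sub]; abel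
    have e := congrArg φ (S.inj this)
    rw [map_sub, map_sub, (hZmem φ hφ z).1, (hZmem φ hφ z').2, sub_self, sub_eq_zero] at e
    exact e
  choose d hd using hex
  have hadd : ∀ φ : Z, ∀ a a', (φ : N →+ F) (d (a + a')) = (φ : N →+ F) (d a) + (φ : N →+ F) (d a') := by
    intro φ a a'
    obtain ⟨x, v, hx, hw⟩ := hd a
    obtain ⟨x', v', hx', hw'⟩ := hd a'
    rw [← map_add]
    exact huniq _ φ.2 (a + a') _ _ (hd _) ⟨x + x', v + v', by rw [map_add, hx, hx'],
      by rw [map_add, hw, hw', da_add, da_add]; abel⟩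
  let G : Z →ₗ[F] (M →+ F) :=
    { toFun := fun φ => AddMonoidHom.mk' (fun a => (φ : N →+ F) (d a)) (hadd φ)
      map_add' := fun φ ψ => rfl
      map_smul' := fun c φ => rfl }
  have hGdiff : ∀ (φ : Z) a w, Diff a w → G φ a = (φ : N →+ F) w := fun φ a w hw =>
    huniq _ φ.2 a _ _ (hd a) hw
  -- `G` lands in the image of `1 + T(0,1)`
  have hGker : ∀ φ : Z, dl h (star β) 1 (G φ) = 0 := fun φ => AddMonoidHom.ext fun a => by
    rw [star_dl, hGdiff φ _ (da h γ 1 (π a)) ⟨da h α 1 (sec a), 0, by rw [S.p_da, hsec], by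
      rw [da_self, da_zero, sub_zero, S.i_da, ← hsec a, hπ, hsec, da_add]⟩]
    exact (hZmem φ φ.2 _).1
  have hR1 := dl_swap_bijective h hβ (one_ne_zero (α := F))
  have hpre : ∀ ψ, dl h (star β) 1 ψ = 0 → ∃ ψ', dl h (star β) 1 ψ' = ψ := fun ψ hψ => by
    obtain ⟨χ, rfl⟩ := hR1.2 ψ
    have h0 := dl_dl_zero h hβ (1 : F) 1
    simp only [map_add, h0, zero_add] at hψ
    have : dl h (star β) 1 χ = 0 := hR1.1 (by simp [hψ, h0])
    exact ⟨_, by simp [this]; rfl⟩
  have hAf : ∀ c' z, f (dl h (nat σ) c' z) = dl h (star γ) c' (f z) := fun c' z => hf.dl h c' z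
  have hfZ : ∀ z : Fin 4 → F, z 2 = 0 → z 3 = 0 → f z ∈ Z := fun z h2 h3 => by
    refine ⟨LinearMap.mem_ker.2 ?_, LinearMap.mem_ker.2 ?_⟩ <;>
    · rw [← hAf, dl_nat]
      convert map_zero f using 2
      funext j; fin_cases j <;> simp [h2, h3]
  let g1 : Z := ⟨f (E 1), hfZ _ (by simp [E]) (by simp [E])⟩
  let g0 : Z := ⟨f (E 0), hfZ _ (by simp [E]) (by simp [E])⟩
  obtain ⟨l1, hl1⟩ := hpre _ (hGker g1)
  -- the relation from `T(1,0)`
  have hx1 : dl h (star β) 1 (star β (T h 1 0) l1) = G g0 + G g1 := by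
    refine AddMonoidHom.ext fun a => ?_
    have hc1 : ∀ c', T h 1 0 * T h (0 : F) c' = T h 0 c' * T h 1 0 := fun c' => by
      rw [T_mul, T_mul]; simp
    have hc2 : ∀ c', (T h 1 0)⁻¹ * T h (0 : F) c' = T h 0 c' * (T h 1 0)⁻¹ := fun c' => by
      rw [inv_mul_eq_iff_eq_mul, ← mul_assoc, hc1, mul_assoc, mul_inv_cancel, mul_one]
    rw [star_dl, star_apply, da_comm h β 1 (hc2 1), ← star_dl, hl1]
    obtain ⟨x, v, hx, hw⟩ := hd a
    rw [hGdiff g1 _ (γ (T h 1 0)⁻¹ (d a)) ⟨α (T h 1 0)⁻¹ x, α (T h 1 0)⁻¹ v, by rw [S.phom, hx],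
      by rw [S.ihom, hw, map_sub, da_comm h α 1 (hc2 1), da_comm h α b (hc2 b)]⟩]
    show star γ (T h 1 0) (f (E 1)) (d a) = f (E 0) (d a) + f (E 1) (d a)
    rw [← hf, tT1, map_one, one_smul, map_add]
    rfl
  -- the two ways of applying both involutions
  set l := star β (T h 1 0) l1 with hl
  let u : Z := ⟨dl h (star γ) b (f (E 3)), by
    rw [← hAf]; exact hfZ _ (by simp [dl_nat h, E]) (by simp [dl_nat h, E])⟩
  have hu1 : dl h (star γ) 1 (f (E 3)) = (g0 + g1 : Z) := by
    rw [← hAf, dl_nat, show (![σ 1 * (E (F := F) 3) 2 + σ (θ m 1) * (E (F := F) 3) 3, σ 1 * (E (F := F) 3) 3, 0, 0] :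
      Fin 4 → F) = E 0 + E 1 by funext j; fin_cases j <;> simp [E], map_add]
    rfl
  have hu : u = σ (θ m b) • g0 + σ b • g1 := Subtype.ext (by
    show dl h (star γ) b (f (E 3)) = _
    rw [← hAf, dl_nat, show (![σ b * (E (F := F) 3) 2 + σ (θ m b) * (E (F := F) 3) 3, σ b * (E (F := F) 3) 3, 0, 0] :
      Fin 4 → F) = σ (θ m b) • E 0 + σ b • E 1 by funext j; fin_cases j <;> simp [E], map_add, map_smul, map_smul]
    rfl)
  have main : dl h (star β) b (kf (E 3)) + dl h (star β) b l = dl h (star β) 1 (kf (E 3)) + G u := by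
    refine AddMonoidHom.ext fun a => ?_
    obtain ⟨x, v, hx, hw⟩ := hd a
    obtain ⟨a', ha'⟩ := exists_da_eq h S.two_M hβ (one_ne_zero (α := F)) (da_da_zero h S.two_M hβ 1 b a)
    obtain ⟨x', rfl⟩ := S.surj a'
    obtain ⟨w', hw'⟩ := (S.exact (da h α 1 x' - da h α b x)).1 (by
      rw [map_sub, S.p_da, S.p_da, hx, ha', sub_self])
    have hv : da h β b (p v) = da h β 1 a := by
      have := congrArg p hw
      rw [(S.exact _).2 ⟨_, rfl⟩, map_sub, S.p_da, S.p_da, hx] at this
      exact (sub_eq_zero.1 this.symm).symm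
    have key : π (da h β b a) - da h γ 1 w' = π (da h β 1 a) + da h γ b (d a) := S.inj (by
      rw [map_sub, map_add, ← ha', ← hv, ← S.p_da, ← S.p_da, hπ, hπ, S.i_da, S.i_da, hw', hw]
      simp only [da, map_sub, map_add, ← amul, T_mul, T_zero, θ_zero, zero_mul, add_zero, h.add_self,
        add_comm b (1 : F), aone]
      abel)
    have e := congrArg (f (E 3)) key
    rw [map_sub, map_add, ← star_dl, ← star_dl, hu1, CharTwo.sub_eq_add] at e
    rw [AddMonoidHom.add_apply, AddMonoidHom.add_apply, star_dl, star_dl, star_dl]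
    show f (E 3) (π (da h β b a)) + l (da h β b a) = f (E 3) (π (da h β 1 a)) + (u : N →+ F) (d a)
    have hl' : l (da h β b a) = ((g0 + g1 : Z) : N →+ F) w' := by
      rw [← ha', ← star_dl, hx1, ← map_add, ← hGdiff _ (p x') w' ⟨x', x, rfl, hw'⟩]
    rw [hl', e]
  -- read off a coordinate
  have e := congrFun (congrArg r main) 1
  have hG1 : G g1 = dl h (star β) 1 l1 := hl1.symm
  have hG0 : G g0 = dl h (star β) 1 l - dl h (star β) 1 l1 := by rw [hx1, hG1, add_sub_cancel_right]
  rw [hu] at e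
  simp only [map_add, map_smul, hG0, hG1] at e
  simp only [map_add, map_sub, map_smul, hr.dl h, hc3, hl, hr (T h 1 0), dl_nat h, nat_T h] at e
  simp [E, fz_eq] at e
  have e' : (σ b + 1) * c = 0 := by linear_combination e + c * h.two_eq_zero
  rcases mul_eq_zero.1 e' with e1 | e1
  · exact hb1 (σ.injective (((h.eq_iff_add_eq_zero _ _).2 e1).trans (map_one σ).symm))
  · exact hc0 e1

end Cfsg.Agent.SzFpf
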